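import Mathlib

/-!
Pairs of permutations with a product not of `p`-power order generating a non-solvable group:
basic transfer lemmas.
-/

set_option autoImplicit false

namespace Cfsg.Agent.AltPPair

open Equiv

variable {α β : Type*}

/-- The product is not of `p`-power order and the group generated is not solvable. -/
def Good {G : Type*} [Group G] (p : ℕ) (U V : G) : Prop :=
  (¬ ∃ k : ℕ, orderOf (U * V) = p ^ k) ∧ ¬ Group.IsSolvable ↥(Subgroup.closure ({U, V} : Set G))

theorem exists_ppow_of_dvd {p : ℕ} (hp : p.Prime) {a b : ℕ} (h : a ∣ b) (hb : ∃ k, b = p ^ k) :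
    ∃ k, a = p ^ k := by
  obtain ⟨k, rfl⟩ := hb
  obtain ⟨j, -, hj⟩ := (Nat.dvd_prime_pow hp).1 h
  exact ⟨j, hj⟩

theorem Good.of_rel {G H : Type*} [Group G] [Group H] {p : ℕ} (hp : p.Prime) (K : Subgroup (G × H))
    (hK : ∀ h : H, ((1 : G), h) ∈ K → h = 1) {U V : G} {c v : H} (h₁ : (U, c) ∈ K) (h₂ : (V, v) ∈ K)
    (hg : Good p c v) : Good p U V := by
  constructor
  · refine fun hU => hg.1 (exists_ppow_of_dvd hp ?_ hU)
    rw [orderOf_dvd_iff_pow_eq_one]
    apply hK
    have h : (U * V, c * v) ^ orderOf (U * V) ∈ K := pow_mem (K.mul_mem h₁ h₂) _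
    rwa [Prod.pow_mk, pow_orderOf_eq_one] at h
  · intro hsol
    set P := Subgroup.closure ({(U, c), (V, v)} : Set (G × H)) with hP
    have hPK : P ≤ K := by
      rw [hP, Subgroup.closure_le]
      rintro _ (rfl | rfl)
      exacts [h₁, h₂]
    have hfst : P.map (MonoidHom.fst G H) = Subgroup.closure {U, V} := by
      rw [hP, MonoidHom.map_closure, Set.image_pair]; rfl
    have hsnd : P.map (MonoidHom.snd G H) = Subgroup.closure {c, v} := by
      rw [hP, MonoidHom.map_closure, Set.image_pair]; rfl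
    haveI := hsol
    have hPs : Group.IsSolvable P := by
      let f : P →* Subgroup.closure ({U, V} : Set G) :=
        ((MonoidHom.fst G H).comp P.subtype).codRestrict _ fun x => hfst ▸ ⟨x, x.2, rfl⟩
      refine solvable_of_solvable_injective (f := f) ((injective_iff_map_eq_one f).2 fun x hx => ?_)
      have h1 : (x : G × H).1 = 1 := congrArg Subtype.val hx
      exact Subtype.ext (Prod.ext h1 (hK _ (by rw [← h1]; exact hPK x.2)))
    haveI := hPs
    refine hg.2 ?_
    rw [← hsnd]
    exact solvable_of_surjective (f := (MonoidHom.snd G H).subgroupMap P)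
      (MonoidHom.subgroupMap_surjective _ P)

/-- Pairs intertwined by a map. -/
def interGroup (ι : β → α) : Subgroup (Perm α × Perm β) where
  carrier := {x | ∀ i, x.1 (ι i) = ι (x.2 i)}
  one_mem' := fun i => rfl
  mul_mem' := fun {x y} hx hy i => by
    show x.1 (y.1 (ι i)) = ι (x.2 (y.2 i))
    rw [hy, hx]
  inv_mem' := fun {x} hx i => by
    show x.1⁻¹ (ι i) = ι (x.2⁻¹ i)
    rw [Perm.inv_eq_iff_eq, hx]
    simp

theorem mem_interGroup {ι : β → α} {g : Perm α} {h : Perm β} :
    (g, h) ∈ interGroup ι ↔ ∀ i, g (ι i) = ι (h i) := Iff.rfl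

theorem Good.lift {p : ℕ} (hp : p.Prime) {ι : β → α} (hι : Function.Injective ι)
    {U V : Perm α} {c v : Perm β} (hU : ∀ i, U (ι i) = ι (c i)) (hV : ∀ i, V (ι i) = ι (v i))
    (hg : Good p c v) : Good p U V :=
  hg.of_rel hp (interGroup ι) (fun h hh => Perm.ext fun i => hι ((hh i).symm.trans rfl)) hU hV

theorem Good.map_injective {G H : Type*} [Group G] [Group H] {p : ℕ} (hp : p.Prime) (f : G →* H)
    (hf : Function.Injective f) {U V : G} (hg : Good p (f U) (f V)) : Good p U V := by
  refine hg.of_rel hp f.graph (fun h hh => ?_) (MonoidHom.mem_graph.2 rfl) (MonoidHom.mem_graph.2 rfl)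
  rw [MonoidHom.mem_graph] at hh
  simpa using hh.symm

theorem Good.conj {G : Type*} [Group G] {p : ℕ} (hp : p.Prime) {U V : G} (hg : Good p U V) (g : G) :
    Good p (g * U * g⁻¹) (g * V * g⁻¹) := by
  refine Good.map_injective hp (MulAut.conj g⁻¹).toMonoidHom (MulAut.conj g⁻¹).injective ?_
  convert hg using 1 <;> simp [mul_assoc]

theorem Good.symm {G : Type*} [Group G] {p : ℕ} {U V : G} (hg : Good p U V) : Good p V U := by
  constructor
  · have e : V * U = V * (U * V) * V⁻¹ := by group
    have h : orderOf (V * U) = orderOf (U * V) := by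
      rw [e]
      exact MulEquiv.orderOf_eq (MulAut.conj V) (U * V)
    rw [h]
    exact hg.1
  · rw [Set.pair_comm]
    exact hg.2

theorem not_ppow_of_period {p q : ℕ} [Finite α] (hp : p.Prime) (hq : q.Prime) (hpq : q ≠ p)
    (g : Perm α) (x : α) (h1 : g x ≠ x) (h2 : (g ^ q) x = x) : ¬ ∃ k : ℕ, orderOf g = p ^ k := by
  rintro ⟨k, hk⟩
  have hp' : Function.minimalPeriod g x ∣ p ^ k :=
    Function.IsPeriodicPt.minimalPeriod_dvd (by
      show g^[p ^ k] x = x
      rw [← Perm.coe_pow, ← hk, pow_orderOf_eq_one]; rfl)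
  have hq' : Function.minimalPeriod g x ∣ q :=
    Function.IsPeriodicPt.minimalPeriod_dvd (by
      show g^[q] x = x
      rw [← Perm.coe_pow]; exact h2)
  have h := Nat.dvd_gcd hp' hq'
  rw [Nat.Coprime.gcd_eq_one (Nat.Coprime.pow_left _ ((Nat.coprime_primes hp hq).2 (Ne.symm hpq)))] at h
  exact h1 (Function.minimalPeriod_eq_one_iff_isFixedPt.1 (Nat.dvd_one.1 h))

/-- Extending an injective finite map to a permutation. -/
theorem exists_perm_extend [Finite α] {γ : Type*} [Finite γ] (f f' : γ → α)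
    (hf : Function.Injective f) (hf' : Function.Injective f') : ∃ σ : Perm α, ∀ i, σ (f i) = f' i := by
  classical
  haveI := Fintype.ofFinite α
  let e : {x // x ∈ Set.range f} ≃ {x // x ∈ Set.range f'} :=
    (Equiv.ofInjective f hf).symm.trans (Equiv.ofInjective f' hf')
  refine ⟨e.extendSubtype, fun i => ?_⟩
  rw [Equiv.extendSubtype_apply_of_mem _ _ ⟨i, rfl⟩]
  show ((Equiv.ofInjective f' hf') ((Equiv.ofInjective f hf).symm ⟨f i, _⟩) : α) = f' i
  rw [Equiv.ofInjective_symm_apply]
  rfl

/-- The same with prescribed sign when two further points are free. -/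
theorem exists_perm_extend_sign [Fintype α] [DecidableEq α] {γ : Type*} [Fintype γ] (f f' : γ → α)
    (hf : Function.Injective f) (hf' : Function.Injective f')
    (hcard : Fintype.card γ + 2 ≤ Fintype.card α) (ε : ℤˣ) :
    ∃ σ : Perm α, Perm.sign σ = ε ∧ ∀ i, σ (f i) = f' i := by
  classical
  obtain ⟨σ, hσ⟩ := exists_perm_extend f f' hf hf'
  by_cases hs : Perm.sign σ = ε
  · exact ⟨σ, hs, hσ⟩
  have hlt : 1 < (Finset.univ.image f')ᶜ.card := by
    rw [Finset.card_compl]
    have h : (Finset.univ.image f').card ≤ Fintype.card γ := Finset.card_image_le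
    omega
  obtain ⟨a, ha, b, hb, hab⟩ := Finset.one_lt_card.1 hlt
  simp only [Finset.mem_compl, Finset.mem_image, Finset.mem_univ, true_and, not_exists] at ha hb
  refine ⟨Equiv.swap a b * σ, ?_, fun i => ?_⟩
  · rw [map_mul, Perm.sign_swap hab]
    rcases Int.units_eq_one_or (Perm.sign σ) with h | h <;>
      rcases Int.units_eq_one_or ε with h' | h' <;> simp_all
  · rw [Perm.mul_apply, hσ]
    exact Equiv.swap_apply_of_ne_of_ne (ha i) (hb i)

end Cfsg.Agent.AltPPair
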