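import Cfsg.Agent.Lib.AltPPair.Cycle

/-!
A cycle of length `p^a ≥ 5` and any `p`-element on the same points.
-/

set_option autoImplicit false

namespace Cfsg.Agent.AltPPair

open Equiv

variable {p : ℕ}

/-- Every orbit of a `p`-power order permutation has `p`-power length. -/
theorem minimalPeriod_eq_pow {α : Type*} (hp : p.Prime) {v : Perm α} {N : ℕ} (hv : v ^ (p ^ N) = 1)
    (x : α) : ∃ s, Function.minimalPeriod v x = p ^ s := by
  obtain ⟨s, -, hs⟩ := (Nat.dvd_prime_pow hp).1 (Function.IsPeriodicPt.minimalPeriod_dvd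
    (show Function.IsPeriodicPt v (p ^ N) x by
      show v^[p ^ N] x = x
      rw [← Perm.coe_pow, hv]; rfl))
  exact ⟨s, hs⟩

theorem eq_of_square {α : Type*} (hp : p.Prime) (hp2 : p ≠ 2) {v : Perm α} {N : ℕ}
    (hv : v ^ (p ^ N) = 1) {x : α} (h : v (v x) = x) : v x = x := by
  obtain ⟨s, hs⟩ := minimalPeriod_eq_pow hp hv x
  have h2 : Function.minimalPeriod v x ∣ 2 :=
    Function.IsPeriodicPt.minimalPeriod_dvd (show v^[2] x = x from h)
  have hd := Nat.dvd_gcd h2 (hs ▸ dvd_refl (p ^ s) : Function.minimalPeriod v x ∣ p ^ s)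
  rw [Nat.Coprime.gcd_eq_one (Nat.Coprime.pow_right _
    ((Nat.coprime_primes Nat.prime_two hp).2 (Ne.symm hp2)))] at hd
  exact Function.minimalPeriod_eq_one_iff_isFixedPt.1 (Nat.dvd_one.1 hd)

theorem conj_apply_of {α : Type*} (τ v : Perm α) {a a' b b' : α} (h : v a = b) (ha : τ a = a')
    (hb : τ b = b') : (τ * v * τ⁻¹) a' = b' := by
  rw [← ha, Perm.mul_apply, Perm.mul_apply, Perm.coe_inv, Equiv.symm_apply_apply, h, hb]

theorem vec_injective {α : Type*} {n : ℕ} (f : Fin n → α) (l : List α) (hl : l = List.ofFn f)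
    (h : l.Nodup) : Function.Injective f := List.nodup_ofFn.1 (hl ▸ h)

/-- Six points forming three disjoint arrows. -/
theorem exists_arrows {α : Type*} [Fintype α] [DecidableEq α] (hp : p.Prime) (hp2 : p ≠ 2)
    {v : Perm α} {N : ℕ} (hv : v ^ (p ^ N) = 1) (hfree : ∀ x, v x ≠ x) (hcard : 7 ≤ Fintype.card α) :
    ∃ a b d, Function.Injective ![a, v a, b, v b, d, v d] := by
  have hv2 : ∀ x, v (v x) ≠ x := fun x h => hfree x (eq_of_square hp hp2 hv h)
  obtain ⟨a⟩ : Nonempty α := Fintype.card_pos_iff.1 (by omega)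
  have pick : ∀ s : Finset α, s.card ≤ 6 → ∃ x, x ∉ s := fun s hs => by
    by_contra h
    push Not at h
    have := Finset.card_le_card (fun x _ => h x : (Finset.univ : Finset α) ⊆ s)
    rw [Finset.card_univ] at this
    omega
  obtain ⟨b, hb⟩ := pick {a, v a, v.symm a} (Finset.card_le_three.trans (by norm_num))
  obtain ⟨d, hd⟩ := pick {a, v a, v.symm a, b, v b, v.symm b} Finset.card_le_six
  simp only [Finset.mem_insert, Finset.mem_singleton, not_or] at hb hd
  refine ⟨a, b, d, vec_injective _ [a, v a, b, v b, d, v d] (by simp [List.ofFn_succ]) ?_⟩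
  obtain ⟨hb1, hb2, hb3⟩ := hb
  obtain ⟨hd1, hd2, hd3, hd4, hd5, hd6⟩ := hd
  have e1 : v b ≠ a := fun h => hb3 (by rw [← h, Equiv.symm_apply_apply])
  have e2 : v d ≠ a := fun h => hd3 (by rw [← h, Equiv.symm_apply_apply])
  have e3 : v d ≠ b := fun h => hd6 (by rw [← h, Equiv.symm_apply_apply])
  have i1 : v b ≠ v a := fun h => hb1 (v.injective h)
  have i2 : v d ≠ v a := fun h => hd1 (v.injective h)
  have i3 : v d ≠ v b := fun h => hd4 (v.injective h)
  simp only [List.nodup_cons, List.mem_cons, List.not_mem_nil, or_false, not_or, List.nodup_nil,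
    and_true, not_false_eq_true]
  exact ⟨⟨(hfree a).symm, Ne.symm hb1, Ne.symm e1, Ne.symm hd1, Ne.symm e2⟩,
    ⟨Ne.symm hb2, Ne.symm i1, Ne.symm hd2, Ne.symm i2⟩,
    ⟨(hfree b).symm, Ne.symm hd4, Ne.symm e3⟩, ⟨Ne.symm hd5, Ne.symm i3⟩, (hfree d).symm⟩

variable [Fact p.Prime]

/-- The case of a proper prime power. -/
theorem core_pow (hp2 : p ≠ 2) {a : ℕ} (ha : 2 ≤ a) [NeZero (p ^ a)] (v : Perm (ZMod (p ^ a)))
    (hv1 : v ≠ 1) {N : ℕ} (hv : v ^ (p ^ N) = 1) (ε : ℤˣ) :
    ∃ τ : Perm (ZMod (p ^ a)), Perm.sign τ = ε ∧ Good p (shift (p ^ a)) (τ * v * τ⁻¹) := by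
  classical
  have hp := (Fact.out : p.Prime)
  have hp3 : 3 ≤ p := by have := hp.two_le; omega
  have hm : 3 * p ≤ p ^ a := by
    calc 3 * p ≤ p * p := Nat.mul_le_mul_right p hp3
      _ = p ^ 2 := (pow_two p).symm
      _ ≤ p ^ a := Nat.pow_le_pow_right hp.pos ha
  set φ := ZMod.castHom (dvd_pow_self p (show a ≠ 0 by omega)) (ZMod p) with hφ
  have hφp : φ (p : ZMod (p ^ a)) = 0 := by rw [map_natCast, ZMod.natCast_self]
  -- the two criteria
  have crit : ∀ w : Perm (ZMod (p ^ a)), ∀ x i j, shift (p ^ a) (w x) ≠ x →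
      (shift (p ^ a) * w) ((shift (p ^ a) * w) x) = x → φ (i - j) = 0 →
      φ (w i - w j) ≠ 0 → Good p (shift (p ^ a)) w := by
    intro w x i j h1 h2 h3 h4
    refine ⟨not_ppow_of_period hp Nat.prime_two (Ne.symm hp2) _ x h1 ?_, fun hsol => h4 ?_⟩
    · rw [pow_two]; exact h2
    haveI := hsol
    exact congr_of_solvable hp hp2 a ha (Subgroup.closure {shift (p ^ a), w})
      (Subgroup.subset_closure (Or.inl rfl)) w (Subgroup.subset_closure (Or.inr rfl)) i j h3
  have inj : ∀ x y : ℕ, x < p ^ a → y < p ^ a → (x : ZMod (p ^ a)) = y → x = y := fun x y hx hy h => by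
    rw [ZMod.natCast_eq_natCast_iff', Nat.mod_eq_of_lt hx, Nat.mod_eq_of_lt hy] at h
    exact h
  have hcard : Fintype.card (ZMod (p ^ a)) = p ^ a := ZMod.card _
  by_cases hfree : ∀ x, v x ≠ x
  · obtain ⟨x, y, z, hinj⟩ := exists_arrows hp hp2 hv hfree (by rw [hcard]; omega)
    have ht : Function.Injective ![(0 : ZMod (p ^ a)), 1, 2, ((p ^ a - 1 : ℕ) : ZMod (p ^ a)),
        (p : ZMod (p ^ a)), ((p + 2 : ℕ) : ZMod (p ^ a))] := by
      have hsub : Function.Injective ![0, 1, 2, p ^ a - 1, p, p + 2] :=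
        vec_injective _ [0, 1, 2, p ^ a - 1, p, p + 2] (by simp [List.ofFn_succ]) (by
          simp only [List.nodup_cons, List.mem_cons, List.not_mem_nil, or_false, not_or, List.nodup_nil,
            and_true, not_false_eq_true]
          omega)
      intro i j h
      apply hsub
      apply inj
      · fin_cases i <;> first | omega | (simp; omega) | simp
      · fin_cases j <;> first | omega | (simp; omega) | simp
      · fin_cases i <;> fin_cases j <;> simp_all
    obtain ⟨τ, hτs, hτ⟩ := exists_perm_extend_sign _ _ hinj ht (by rw [hcard, Fintype.card_fin]; omega) ε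
    refine ⟨τ, hτs, ?_⟩
    have w0 : (τ * v * τ⁻¹) 0 = 1 := conj_apply_of τ v rfl (hτ 0) (hτ 1)
    have w2 : (τ * v * τ⁻¹) 2 = ((p ^ a - 1 : ℕ) : ZMod (p ^ a)) := conj_apply_of τ v rfl (hτ 2) (hτ 3)
    have wp : (τ * v * τ⁻¹) (p : ZMod (p ^ a)) = ((p + 2 : ℕ) : ZMod (p ^ a)) :=
      conj_apply_of τ v rfl (hτ 4) (hτ 5)
    have h20 : (2 : ZMod (p ^ a)) ≠ 0 := fun h => by
      have := inj 2 0 (by omega) (by omega) (by exact_mod_cast h); omega
    generalize τ * v * τ⁻¹ = w at w0 w2 wp ⊢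
    refine crit _ 0 (p : ZMod (p ^ a)) 0 ?_ ?_ ?_ ?_
    · rw [w0, shift_apply, one_add_one_eq_two]; exact h20
    · simp only [Perm.mul_apply, w0, shift_apply, one_add_one_eq_two, w2]
      rw [← Nat.cast_add_one, Nat.sub_add_cancel (by omega), ZMod.natCast_self]
    · rw [sub_zero, hφp]
    · rw [wp, w0, map_sub, map_natCast, map_one, Nat.cast_add, ZMod.natCast_self, zero_add]
      intro h
      refine one_ne_zero (α := ZMod p) ?_
      linear_combination h
  · push Not at hfree
    obtain ⟨x, hx⟩ := hfree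
    obtain ⟨y, hy, hyx⟩ := Perm.exists_fixed_point_of_prime' (p := p)
      (by rw [hcard]; exact dvd_pow_self p (by omega)) hv hx
    obtain ⟨z, hz⟩ : ∃ z, v z ≠ z := by
      by_contra h
      push Not at h
      exact hv1 (Perm.ext h)
    have hinj : Function.Injective ![z, v z, x, y] :=
      vec_injective _ [z, v z, x, y] (by simp [List.ofFn_succ]) (by
        simp only [List.nodup_cons, List.mem_cons, List.not_mem_nil, or_false, not_or, List.nodup_nil,
          and_true, not_false_eq_true]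
        refine ⟨⟨hz.symm, ?_, ?_⟩, ⟨?_, ?_⟩, hyx.symm⟩
        · rintro rfl; exact hz hx
        · rintro rfl; exact hz hy
        · exact fun h => hz (v.injective (by rw [h, hx]))
        · exact fun h => hz (v.injective (by rw [h, hy])))
    have ht : Function.Injective ![(2 : ZMod (p ^ a)), 0, 1, ((2 + p : ℕ) : ZMod (p ^ a))] := by
      have hsub : Function.Injective ![2, 0, 1, 2 + p] :=
        vec_injective _ [2, 0, 1, 2 + p] (by simp [List.ofFn_succ]) (by
          simp only [List.nodup_cons, List.mem_cons, List.not_mem_nil, or_false, not_or, List.nodup_nil,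
            and_true, not_false_eq_true]
          omega)
      intro i j h
      apply hsub
      apply inj
      · fin_cases i <;> first | omega | (simp; omega) | simp
      · fin_cases j <;> first | omega | (simp; omega) | simp
      · fin_cases i <;> fin_cases j <;> simp_all
    obtain ⟨τ, hτs, hτ⟩ := exists_perm_extend_sign _ _ hinj ht (by rw [hcard, Fintype.card_fin]; omega) ε
    refine ⟨τ, hτs, ?_⟩
    have w2 : (τ * v * τ⁻¹) 2 = 0 := conj_apply_of τ v rfl (hτ 0) (hτ 1)
    have w1 : (τ * v * τ⁻¹) 1 = 1 := conj_apply_of τ v hx (hτ 2) (hτ 2)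
    have we : (τ * v * τ⁻¹) ((2 + p : ℕ) : ZMod (p ^ a)) = ((2 + p : ℕ) : ZMod (p ^ a)) :=
      conj_apply_of τ v hy (hτ 3) (hτ 3)
    have h21 : (2 : ZMod (p ^ a)) ≠ 1 := fun h => by
      have := inj 2 1 (by omega) (by omega) (by exact_mod_cast h); omega
    generalize τ * v * τ⁻¹ = w at w1 w2 we ⊢
    refine crit _ 1 ((2 + p : ℕ) : ZMod (p ^ a)) 2 ?_ ?_ ?_ ?_
    · rw [w1, shift_apply, one_add_one_eq_two]; exact h21
    · simp only [Perm.mul_apply, w1, shift_apply, one_add_one_eq_two, w2, zero_add]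
    · rw [map_sub, map_natCast, Nat.cast_add, ZMod.natCast_self, add_zero, map_ofNat, Nat.cast_ofNat,
        sub_self]
    · rw [we, w2, sub_zero, map_natCast, Nat.cast_add, ZMod.natCast_self, add_zero]
      intro h
      rw [ZMod.natCast_eq_zero_iff] at h
      have := Nat.le_of_dvd two_pos h
      omega

theorem five_rho :
    ∀ ε : ℤˣ, ∃ ρ : Perm (ZMod 5), Perm.sign ρ = ε ∧ ∃ q, (q = 2 ∨ q = 3) ∧ ∃ x i : ZMod 5,
      shift 5 ((ρ * shift 5 * ρ⁻¹) x) ≠ x ∧ ((shift 5 * (ρ * shift 5 * ρ⁻¹)) ^ q) x = x ∧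
      (ρ * shift 5 * ρ⁻¹) i ≠
        (ρ * shift 5 * ρ⁻¹) 0 + i * ((ρ * shift 5 * ρ⁻¹) 1 - (ρ * shift 5 * ρ⁻¹) 0) := by
  intro ε
  rcases Int.units_eq_one_or ε with rfl | rfl
  · refine ⟨Equiv.swap 1 2 * Equiv.swap 3 4, ?_, 3, Or.inr rfl, 0, 3, ?_⟩
    · rw [map_mul, Perm.sign_swap (by decide), Perm.sign_swap (by decide)]; rfl
    · decide
  · refine ⟨Equiv.swap 3 4, Perm.sign_swap (by decide), 2, Or.inl rfl, 0, 2, ?_⟩
    decide

/-- The case of a prime. -/
theorem core_prime (h5 : 5 ≤ p) (v : Perm (ZMod p))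
    (hv1 : v ≠ 1) {N : ℕ} (hv : v ^ (p ^ N) = 1) (ε : ℤˣ) :
    ∃ τ : Perm (ZMod p), Perm.sign τ = ε ∧ Good p (shift p) (τ * v * τ⁻¹) := by
  classical
  have hp := (Fact.out : p.Prime)
  have hp2 : p ≠ 2 := by omega
  have inj : ∀ x y : ℕ, x < p → y < p → (x : ZMod p) = y → x = y := fun x y hx hy h => by
    rw [ZMod.natCast_eq_natCast_iff', Nat.mod_eq_of_lt hx, Nat.mod_eq_of_lt hy] at h
    exact h
  have crit : ∀ w : Perm (ZMod p), ∀ q, (q = 2 ∨ q = 3) → ∀ x i, shift p (w x) ≠ x →
      ((shift p * w) ^ q) x = x → w i ≠ w 0 + i * (w 1 - w 0) → Good p (shift p) w := by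
    intro w q hq x i h1 h2 h3
    refine ⟨?_, fun hsol => h3 ?_⟩
    · rcases hq with rfl | rfl
      · exact not_ppow_of_period hp Nat.prime_two (by omega) _ x h1 h2
      · exact not_ppow_of_period hp Nat.prime_three (by omega) _ x h1 h2
    haveI := hsol
    exact affine_of_solvable hp (Subgroup.closure {shift p, w})
      (Subgroup.subset_closure (Or.inl rfl)) w (Subgroup.subset_closure (Or.inr rfl)) i
  -- `v` is a `p`-cycle
  obtain ⟨z, hz⟩ : ∃ z, v z ≠ z := by
    by_contra h
    push Not at h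
    exact hv1 (Perm.ext h)
  have hinjz : Set.InjOn (fun j => v^[j] z) (Set.Iio (Function.minimalPeriod v z)) :=
    Function.iterate_injOn_Iio_minimalPeriod
  have hper : Function.minimalPeriod v z = p := by
    obtain ⟨s, hs⟩ := minimalPeriod_eq_pow hp hv z
    have hle : Function.minimalPeriod v z ≤ p := by
      by_contra hlt
      have := Fintype.card_le_of_injective (fun j : Fin (p + 1) => v^[(j : ℕ)] z) fun i j h =>
        Fin.ext (hinjz (Set.mem_Iio.2 (by omega)) (Set.mem_Iio.2 (by omega)) h)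
      rw [Fintype.card_fin, ZMod.card] at this
      omega
    rw [hs] at hle
    rcases s with _ | _ | s
    · exact absurd (Function.minimalPeriod_eq_one_iff_isFixedPt.1 (hs.trans (pow_zero p))) hz
    · rw [hs, pow_one]
    · exfalso
      have h2 : p ^ 2 ≤ p ^ (s + 1 + 1) := Nat.pow_le_pow_right hp.pos (by omega)
      have h3 := Nat.mul_le_mul_left p hp.two_le
      rw [pow_two] at h2
      omega
  let π : Perm (ZMod p) := Equiv.ofBijective (fun j => v^[j.val] z)
    (Finite.injective_iff_bijective.1 fun i j h => ZMod.val_injective p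
      (hinjz (Set.mem_Iio.2 (hper.symm ▸ ZMod.val_lt i)) (Set.mem_Iio.2 (hper.symm ▸ ZMod.val_lt j)) h))
  have hπ : ∀ j, π j = v^[j.val] z := fun j => rfl
  have hvπ : ∀ j, v (π j) = π (j + 1) := by
    intro j
    rw [hπ, hπ, ← Function.iterate_succ_apply' v j.val z, ZMod.val_add, ZMod.val_one]
    have h := Function.iterate_mod_minimalPeriod_eq (f := v) (x := z) (n := j.val + 1)
    rw [hper] at h
    exact h.symm
  by_cases hp5 : p = 5
  · subst hp5
    obtain ⟨ρ, hρ, q, hq, x, i, h1, h2, h3⟩ := five_rho (ε * Perm.sign π)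
    refine ⟨ρ * π⁻¹, ?_, ?_⟩
    · rw [map_mul, Perm.sign_inv, hρ, mul_assoc, Int.units_mul_self, mul_one]
    · have e : ρ * π⁻¹ * v * (ρ * π⁻¹)⁻¹ = ρ * shift 5 * ρ⁻¹ := by
        have e' : π⁻¹ * v * π = shift 5 := Perm.ext fun j => by
          rw [Perm.mul_apply, Perm.mul_apply, hvπ, Perm.coe_inv, Equiv.symm_apply_apply, shift_apply]
        rw [← e']; group
      rw [e]
      exact crit _ q hq x i h1 h2 h3
  have h7 : 7 ≤ p := by
    rcases Nat.lt_or_ge p 7 with h | h
    · interval_cases p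
      · exact absurd rfl hp5
      · exact absurd hp (by norm_num)
    · exact h
  have hfree : ∀ x, v x ≠ x := by
    intro x hx
    obtain ⟨j, rfl⟩ := π.surjective x
    rw [hvπ] at hx
    exact one_ne_zero (add_eq_left.1 (π.injective hx))
  obtain ⟨x, y, e, hinj⟩ := exists_arrows hp hp2 hv hfree (by rw [ZMod.card]; omega)
  have ht : Function.Injective ![(0 : ZMod p), 1, 2, ((p - 1 : ℕ) : ZMod p), 3, 4] := by
    have hsub : Function.Injective ![0, 1, 2, p - 1, 3, 4] :=
      vec_injective _ [0, 1, 2, p - 1, 3, 4] (by simp [List.ofFn_succ]) (by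
        simp only [List.nodup_cons, List.mem_cons, List.not_mem_nil, or_false, not_or, List.nodup_nil,
          and_true, not_false_eq_true]
        omega)
    intro i j h
    apply hsub
    apply inj
    · fin_cases i <;> first | omega | (simp; omega) | simp
    · fin_cases j <;> first | omega | (simp; omega) | simp
    · fin_cases i <;> fin_cases j <;> simp_all
  obtain ⟨τ, hτ⟩ := exists_perm_extend _ _ hinj ht
  have n : ∀ x y : ℕ, x < p → y < p → x ≠ y → (x : ZMod p) ≠ (y : ZMod p) :=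
    fun x y hx hy hxy h => hxy (inj x y hx hy h)
  have n20 : (2 : ZMod p) ≠ 0 := by simpa using n 2 0 (by omega) (by omega) (by omega)
  have hlast : ((p - 1 : ℕ) : ZMod p) + 1 = 0 := by
    rw [← Nat.cast_add_one, Nat.sub_add_cancel (by omega), ZMod.natCast_self]
  have h6 : (6 : ZMod p) ≠ 0 := by simpa using n 6 0 (by omega) (by omega) (by omega)
  have good : ∀ w : Perm (ZMod p), w 0 = 1 → w 2 = ((p - 1 : ℕ) : ZMod p) →
      (w 3 = 4 ∨ w 4 = 3) → Good p (shift p) w := by
    intro w w0 w2 w3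
    by_contra hng
    have hx : shift p (w 0) ≠ 0 := by rw [w0, shift_apply, one_add_one_eq_two]; exact n20
    have hq : ((shift p * w) ^ 2) 0 = 0 := by
      simp only [pow_two, Perm.mul_apply, w0, shift_apply, one_add_one_eq_two, w2, hlast]
    have aff : ∀ i, w i = w 0 + i * (w 1 - w 0) := fun i => by
      by_contra h
      exact hng (crit w 2 (Or.inl rfl) 0 i hx hq h)
    have hd : w 1 - w 0 = -1 := by
      have h2 := aff 2
      rw [w2, w0] at h2
      refine mul_left_cancel₀ n20 ?_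
      rw [w0]
      linear_combination hlast - h2
    rcases w3 with h | h
    · have := aff 3
      rw [hd, w0, h] at this
      apply h6
      linear_combination this
    · have := aff 4
      rw [hd, w0, h] at this
      apply h6
      linear_combination this
  by_cases hs : Perm.sign τ = ε
  · exact ⟨τ, hs, good _ (conj_apply_of τ v rfl (hτ 0) (hτ 1)) (conj_apply_of τ v rfl (hτ 2) (hτ 3))
      (Or.inl (conj_apply_of τ v rfl (hτ 4) (hτ 5)))⟩
  · set τ' := Equiv.swap (3 : ZMod p) 4 * τ with hτ'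
    have h34 : (3 : ZMod p) ≠ 4 := by simpa using n 3 4 (by omega) (by omega) (by omega)
    have t' : ∀ u t : ZMod p, τ u = t → τ' u = Equiv.swap (3 : ZMod p) 4 t := fun u t h => by
      rw [hτ', Perm.mul_apply, h]
    have q0 : τ' x = 0 := by
      rw [t' x _ (hτ 0)]
      exact Equiv.swap_apply_of_ne_of_ne (by simpa using n 0 3 (by omega) (by omega) (by omega))
        (by simpa using n 0 4 (by omega) (by omega) (by omega))
    have q1 : τ' (v x) = 1 := by
      rw [t' (v x) _ (hτ 1)]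
      exact Equiv.swap_apply_of_ne_of_ne (by simpa using n 1 3 (by omega) (by omega) (by omega))
        (by simpa using n 1 4 (by omega) (by omega) (by omega))
    have q2 : τ' y = 2 := by
      rw [t' y _ (hτ 2)]
      exact Equiv.swap_apply_of_ne_of_ne (by simpa using n 2 3 (by omega) (by omega) (by omega))
        (by simpa using n 2 4 (by omega) (by omega) (by omega))
    have q3 : τ' (v y) = ((p - 1 : ℕ) : ZMod p) := by
      rw [t' (v y) _ (hτ 3)]
      exact Equiv.swap_apply_of_ne_of_ne (n (p - 1) 3 (by omega) (by omega) (by omega))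
        (n (p - 1) 4 (by omega) (by omega) (by omega))
    refine ⟨τ', ?_, good _ (conj_apply_of τ' v rfl q0 q1) (conj_apply_of τ' v rfl q2 q3)
      (Or.inr (conj_apply_of τ' v (a := e) (b := v e) rfl (a' := 4) (b' := 3) ?_ ?_))⟩
    · rw [hτ', map_mul, Perm.sign_swap h34]
      rcases Int.units_eq_one_or (Perm.sign τ) with h | h <;>
        rcases Int.units_eq_one_or ε with h' | h' <;> simp_all
    · rw [t' e _ (hτ 4)]; exact Equiv.swap_apply_left _ _
    · rw [t' (v e) _ (hτ 5)]; exact Equiv.swap_apply_right _ _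

end Cfsg.Agent.AltPPair
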