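import Cfsg.Agent.Lib.AltPPair.Basic

/-!
Solvable groups of permutations of `ℤ/p^a` containing the regular cycle.
-/

set_option autoImplicit false

namespace Cfsg.Agent.AltPPair

open Equiv
open scoped commutatorElement

variable {p : ℕ}

/-- The translation `x ↦ x + 1`. -/
def shift (m : ℕ) : Perm (ZMod m) := Equiv.addRight 1

theorem shift_apply {m : ℕ} (x : ZMod m) : shift m x = x + 1 := rfl

theorem shift_pow_apply {m : ℕ} (j : ℕ) (x : ZMod m) : (shift m ^ j) x = x + (j : ZMod m) := by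
  induction j with
  | zero => simp
  | succ j ih => rw [pow_succ', Perm.mul_apply, ih, shift_apply]; push_cast; ring

theorem commute_shift {m : ℕ} [NeZero m] {g : Perm (ZMod m)} (h : g * shift m = shift m * g)
    (x : ZMod m) : g x = g 0 + x := by
  have key : ∀ j : ℕ, g (j : ZMod m) = g 0 + (j : ZMod m) := by
    intro j
    induction j with
    | zero => simp
    | succ j ih =>
      have h' : g ((j : ZMod m) + 1) = g (j : ZMod m) + 1 := congrFun (congrArg DFunLike.coe h) (j : ZMod m)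
      push_cast
      rw [h', ih]; ring
  simpa using key x.val

/-- An orbit subgroup of a normal subgroup gives a congruence preserved by the whole group. -/
theorem orbit_congr {m : ℕ} [NeZero m] {L N : Subgroup (Perm (ZMod m))} (hc : shift m ∈ L)
    (hN : ∀ g ∈ L, ∀ n ∈ N, g * n * g⁻¹ ∈ N) :
    ∃ H : AddSubgroup (ZMod m), (∀ i, i ∈ H ↔ ∃ n ∈ N, n 0 = i) ∧
      (∀ n ∈ N, ∀ i, n i - i ∈ H) ∧ ∀ g ∈ L, ∀ i j, i - j ∈ H → g i - g j ∈ H := by
  have htr : ∀ i h : ZMod m, (∃ n ∈ N, n 0 = h) → ∃ n ∈ N, n i = i + h := by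
    rintro i h ⟨n, hn, rfl⟩
    refine ⟨_, hN (shift m ^ i.val) (pow_mem hc _) n hn, ?_⟩
    have e : (shift m ^ i.val)⁻¹ i = 0 := by
      rw [Perm.inv_eq_iff_eq, shift_pow_apply]; simp
    rw [Perm.mul_apply, Perm.mul_apply, e, shift_pow_apply]
    simp [add_comm]
  have hback : ∀ i j : ZMod m, (∃ n ∈ N, n j = i) → ∃ n ∈ N, n 0 = i - j := by
    rintro i j ⟨n, hn, rfl⟩
    refine ⟨_, hN ((shift m ^ j.val)⁻¹) (inv_mem (pow_mem hc _)) n hn, ?_⟩
    have e : (shift m ^ j.val) 0 = j := by rw [shift_pow_apply]; simp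
    rw [inv_inv, Perm.mul_apply, Perm.mul_apply, e, Perm.inv_eq_iff_eq, shift_pow_apply]
    simp
  refine ⟨{ carrier := {i | ∃ n ∈ N, n 0 = i}
            zero_mem' := ⟨1, one_mem N, rfl⟩
            add_mem' := ?_
            neg_mem' := ?_ }, fun i => Iff.rfl, fun n hn i => hback _ _ ⟨n, hn, rfl⟩, ?_⟩
  · rintro a b ⟨n, hn, rfl⟩ hb
    obtain ⟨n', hn', h'⟩ := htr (n 0) b hb
    exact ⟨n' * n, mul_mem hn' hn, by rw [Perm.mul_apply, h']⟩
  · rintro a ⟨n, hn, rfl⟩
    obtain ⟨n', hn', h'⟩ := hback 0 (n 0) ⟨n⁻¹, inv_mem hn, by simp⟩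
    exact ⟨n', hn', by rw [h', zero_sub]⟩
  · intro g hg i j hij
    obtain ⟨n, hn, h⟩ := htr j (i - j) hij
    refine hback _ _ ⟨_, hN g hg n hn, ?_⟩
    rw [Perm.mul_apply, Perm.mul_apply, Perm.coe_inv, Equiv.symm_apply_apply, h]
    congr 1
    ring

theorem natCast_prime_pow_ne_zero (hp : p.Prime) {a b : ℕ} (hb : b < a) :
    ((p ^ b : ℕ) : ZMod (p ^ a)) ≠ 0 := by
  rw [Ne, ZMod.natCast_eq_zero_iff, Nat.pow_dvd_pow_iff_le_right hp.one_lt]
  omega

/-- A subgroup of `ℤ/p^a` is the kernel of the reduction modulo some `p^r`. -/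
theorem addSubgroup_zmod (hp : p.Prime) {a : ℕ} (H : AddSubgroup (ZMod (p ^ a))) :
    ∃ r, ∃ hr : r ≤ a, ∀ x, x ∈ H ↔
      ZMod.castHom (Nat.pow_dvd_pow p hr) (ZMod (p ^ r)) x = 0 := by
  classical
  haveI : NeZero (p ^ a) := ⟨(pow_pos hp.pos _).ne'⟩
  have hex : ∃ r, ((p ^ r : ℕ) : ZMod (p ^ a)) ∈ H := ⟨a, by rw [ZMod.natCast_self]; exact H.zero_mem⟩
  have hr : Nat.find hex ≤ a := Nat.find_le (by rw [ZMod.natCast_self]; exact H.zero_mem)
  refine ⟨Nat.find hex, hr, fun x => ?_⟩
  obtain ⟨v, rfl⟩ : ∃ v : ℕ, (v : ZMod (p ^ a)) = x := ⟨x.val, ZMod.natCast_rightInverse x⟩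
  rw [map_natCast, ZMod.natCast_eq_zero_iff]
  constructor
  · intro hv
    obtain ⟨s, -, hs⟩ := (Nat.dvd_prime_pow hp).1 (Nat.gcd_dvd_right v (p ^ a))
    have hb := congrArg (fun z : ℤ => (z : ZMod (p ^ a))) (Nat.gcd_eq_gcd_ab v (p ^ a))
    simp only [Int.cast_natCast, Int.cast_add, Int.cast_mul, ZMod.natCast_self, zero_mul, add_zero] at hb
    have hsH : ((p ^ s : ℕ) : ZMod (p ^ a)) ∈ H := by
      rw [← hs, hb, mul_comm, ← zsmul_eq_mul]
      exact H.zsmul_mem hv _
    exact (Nat.pow_dvd_pow p (Nat.find_le hsH)).trans (hs ▸ Nat.gcd_dvd_left v (p ^ a))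
  · rintro ⟨k, rfl⟩
    rw [Nat.cast_mul, mul_comm, ← nsmul_eq_mul]
    exact H.nsmul_mem (Nat.find_spec hex) _

/-- No elementary abelian regular subgroup is normalised by a cycle of length `p^a`, `a ≥ 2`. -/
theorem no_regular (hp : p.Prime) (hp2 : p ≠ 2) {a : ℕ} (ha : 2 ≤ a)
    (N : Subgroup (Perm (ZMod (p ^ a)))) (hab : ∀ x ∈ N, ∀ y ∈ N, x * y = y * x)
    (hexp : ∀ x ∈ N, x ^ p = 1) (htr : ∀ i, ∃ n ∈ N, n 0 = i)
    (hc : ∀ n ∈ N, shift (p ^ a) * n * (shift (p ^ a))⁻¹ ∈ N) : False := by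
  classical
  haveI := Fact.mk hp
  haveI : NeZero (p ^ a) := ⟨(pow_pos hp.pos _).ne'⟩
  set M : ZMod (p ^ a) := ((p ^ (a - 1) : ℕ) : ZMod (p ^ a)) with hMdef
  have hM0 : M ≠ 0 := natCast_prime_pow_ne_zero hp (by omega)
  have hpM : (p : ZMod (p ^ a)) * M = 0 := by
    rw [hMdef, ← Nat.cast_mul, ← pow_succ', show a - 1 + 1 = a by omega, ZMod.natCast_self]
  have hMM : M * M = 0 := by
    rw [hMdef, ← Nat.cast_mul, ← pow_add, ZMod.natCast_eq_zero_iff]
    exact Nat.pow_dvd_pow p (by omega)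
  have huniq : ∀ x ∈ N, ∀ y ∈ N, x 0 = y 0 → x = y := by
    intro x hx y hy h
    refine Perm.ext fun i => ?_
    obtain ⟨n, hn, rfl⟩ := htr i
    rw [← Perm.mul_apply, ← Perm.mul_apply, hab x hx n hn, hab y hy n hn, Perm.mul_apply,
      Perm.mul_apply, h]
  let e : N ≃ ZMod (p ^ a) := Equiv.ofBijective (fun n => (n : Perm (ZMod (p ^ a))) 0)
    ⟨fun x y h => Subtype.ext (huniq x x.2 y y.2 h), fun i => by
      obtain ⟨n, hn, h⟩ := htr i; exact ⟨⟨n, hn⟩, h⟩⟩
  have hcard : Nat.card N = p ^ a := by rw [Nat.card_congr e, Nat.card_zmod]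
  set c := shift (p ^ a) with hcdef
  let γ : N →* N :=
    { toFun := fun n => ⟨c * (n : Perm (ZMod (p ^ a))) * c⁻¹, hc n n.2⟩
      map_one' := Subtype.ext (by simp)
      map_mul' := fun x y => Subtype.ext (by
        simp only [Subgroup.coe_mul, conj_mul]) }
  letI : CommGroup N :=
    { (inferInstance : Group N) with mul_comm := fun x y => Subtype.ext (hab x x.2 y y.2) }
  -- the kernel of `n ↦ [c, n]` is the group of translations of order `p`
  let D : N →* N :=
    { toFun := fun n => γ n * n⁻¹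
      map_one' := by simp
      map_mul' := fun x y => by rw [map_mul, mul_inv]; exact mul_mul_mul_comm _ _ _ _ }
  have hcomm : ∀ n : N, D n = 1 ↔ (n : Perm (ZMod (p ^ a))) * c = c * n := by
    intro n
    show γ n * n⁻¹ = 1 ↔ _
    rw [mul_inv_eq_one, Subtype.ext_iff]
    show c * (n : Perm (ZMod (p ^ a))) * c⁻¹ = n ↔ _
    rw [mul_inv_eq_iff_eq_mul]
    exact eq_comm
  have hker : ∀ n : N, D n = 1 → ∃ k : ℕ, ∀ i, (n : Perm (ZMod (p ^ a))) i = i + k • M := by
    intro n hn
    have h := commute_shift ((hcomm n).1 hn)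
    have hp0 : (p : ZMod (p ^ a)) * (n : Perm (ZMod (p ^ a))) 0 = 0 := by
      have key : ∀ j : ℕ, ((n : Perm (ZMod (p ^ a))) ^ j) 0 = (j : ZMod (p ^ a)) * (n : Perm (ZMod (p ^ a))) 0 := by
        intro j
        induction j with
        | zero => simp
        | succ j ih => rw [pow_succ', Perm.mul_apply, ih, h]; push_cast; ring
      rw [← key, hexp n n.2]; rfl
    obtain ⟨k, hk⟩ : ∃ k : ℕ, (n : Perm (ZMod (p ^ a))) 0 = k • M := by
      rw [← ZMod.natCast_rightInverse ((n : Perm (ZMod (p ^ a))) 0), ← Nat.cast_mul,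
        ZMod.natCast_eq_zero_iff] at hp0
      have hd : p ^ (a - 1) ∣ ((n : Perm (ZMod (p ^ a))) 0).val := by
        refine (Nat.mul_dvd_mul_iff_left hp.pos).1 ?_
        rwa [← pow_succ', show a - 1 + 1 = a by omega]
      obtain ⟨k, hk⟩ := hd
      refine ⟨k, ?_⟩
      rw [← ZMod.natCast_rightInverse ((n : Perm (ZMod (p ^ a))) 0), hk, nsmul_eq_mul, hMdef]
      push_cast
      ring
    exact ⟨k, fun i => by rw [h, hk, add_comm]⟩
  haveI : Fintype N := Fintype.ofFinite _
  have hγpow : ∀ (j : ℕ) (n : N), ((γ^[j] n : N) : Perm (ZMod (p ^ a))) = c ^ j * n * (c ^ j)⁻¹ := by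
    intro j
    induction j with
    | zero => intro n; simp
    | succ j ih =>
      intro n
      rw [Function.iterate_succ_apply']
      show c * (γ^[j] n : N) * c⁻¹ = _
      rw [ih, pow_succ', mul_inv_rev]
      simp only [mul_assoc]
  have hcpow : c ^ (p ^ a) = 1 := Perm.ext fun x => by
    rw [hcdef, shift_pow_apply, ZMod.natCast_self, add_zero]; rfl
  obtain ⟨n, hn1, hn2⟩ : ∃ n : N, D n ≠ 1 ∧ D (D n) = 1 := by
    have hne : D.range ≠ ⊥ := by
      intro h
      have hall : ∀ n : N, D n = 1 := fun n => by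
        rw [← Subgroup.mem_bot, ← h]; exact ⟨n, rfl⟩
      obtain ⟨n, hn⟩ := e.surjective 1
      obtain ⟨k, hk⟩ := hker n (hall n)
      have h1 : k • M = 1 := by
        have : (n : Perm (ZMod (p ^ a))) 0 = 1 := hn
        rw [hk, zero_add] at this
        exact this
      apply natCast_prime_pow_ne_zero hp (show 1 < a by omega) (b := 1)
      rw [pow_one, ← mul_one (p : ZMod (p ^ a)), ← h1, nsmul_eq_mul, mul_left_comm, hpM, mul_zero]
    have hst : ∀ x, x ∈ D.range → γ x ∈ D.range := by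
      rintro _ ⟨n, rfl⟩
      refine ⟨γ n, ?_⟩
      show γ (γ n) * (γ n)⁻¹ = γ (γ n * n⁻¹)
      rw [map_mul, map_inv]
    have hγinj : Function.Injective γ := fun x y h => by
      have := congrArg Subtype.val h
      exact Subtype.ext (mul_left_cancel (mul_right_cancel this))
    let σ : Perm D.range := Equiv.ofBijective (fun x => ⟨γ x, hst x x.2⟩)
      (Finite.injective_iff_bijective.1 fun x y h => Subtype.ext (hγinj (congrArg Subtype.val h)))
    have hσpow : ∀ (j : ℕ) (x : D.range), (((σ ^ j) x : D.range) : N) = γ^[j] (x : N) := by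
      intro j
      induction j with
      | zero => intro x; rfl
      | succ j ih =>
        intro x
        rw [pow_succ', Perm.mul_apply, Function.iterate_succ_apply', ← ih]
        rfl
    have hσ : σ ^ (p ^ a) = 1 := Perm.ext fun x => Subtype.ext (Subtype.ext (by
      rw [hσpow, hγpow, hcpow]; simp))
    have hdvd : p ∣ Fintype.card D.range := by
      rw [← Nat.card_eq_fintype_card]
      haveI := (Subgroup.nontrivial_iff_ne_bot D.range).2 hne
      obtain ⟨k, hk, hk'⟩ := ((IsPGroup.of_card hcard).to_subgroup D.range).nontrivial_iff_card.1 inferInstance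
      rw [hk']
      exact dvd_pow_self p hk.ne'
    obtain ⟨b, hb, hb1⟩ := Equiv.Perm.exists_fixed_point_of_prime' hdvd hσ (a := 1)
      (Subtype.ext (map_one γ))
    obtain ⟨n, hn⟩ := b.2
    refine ⟨n, fun h => hb1 (Subtype.ext (hn.symm.trans h)), ?_⟩
    rw [hn]
    show γ (b : N) * (b : N)⁻¹ = 1
    rw [mul_inv_eq_one]
    exact congrArg Subtype.val hb
  obtain ⟨k, hk⟩ := hker (D n) hn2
  set s := k • M with hs
  have hs0 : s ≠ 0 := fun h => hn1 (Subtype.ext (Perm.ext fun i => by rw [hk, h, add_zero]; rfl))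
  have hss : s * s = 0 := by
    rw [hs, nsmul_eq_mul, mul_mul_mul_comm, hMM, mul_zero]
  have hstep : ∀ x, (n : Perm (ZMod (p ^ a))) (x + 1) = (n : Perm (ZMod (p ^ a))) x + (1 - s) := by
    intro x
    have h1 : ((D n : N) : Perm (ZMod (p ^ a))) * n * c = c * n := by
      show c * (n : Perm (ZMod (p ^ a))) * c⁻¹ * (n : Perm (ZMod (p ^ a)))⁻¹ * n * c = c * n
      group
    have h2 := congrFun (congrArg DFunLike.coe h1) x
    simp only [Perm.mul_apply, hk, hcdef, shift_apply] at h2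
    linear_combination h2
  have hlin : ∀ x, (n : Perm (ZMod (p ^ a))) x = (n : Perm (ZMod (p ^ a))) 0 + x * (1 - s) := by
    intro x
    have key : ∀ j : ℕ, (n : Perm (ZMod (p ^ a))) (j : ZMod (p ^ a)) =
        (n : Perm (ZMod (p ^ a))) 0 + (j : ZMod (p ^ a)) * (1 - s) := by
      intro j
      induction j with
      | zero => simp
      | succ j ih => push_cast; rw [hstep, ih]; ring
    simpa using key x.val
  set n0 := (n : Perm (ZMod (p ^ a))) 0 with hn0
  have hpow : ∀ j : ℕ, ((n : Perm (ZMod (p ^ a))) ^ j) 0 =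
      n0 * ((j : ZMod (p ^ a)) - ((∑ l ∈ Finset.range j, l : ℕ) : ZMod (p ^ a)) * s) := by
    intro j
    induction j with
    | zero => simp
    | succ j ih =>
      rw [pow_succ', Perm.mul_apply, hlin, ih, Finset.sum_range_succ]
      push_cast
      linear_combination (n0 * ((∑ l ∈ Finset.range j, (l : ZMod (p ^ a))))) * hss
  have hp0 : (p : ZMod (p ^ a)) * n0 = 0 := by
    have h := hpow p
    rw [hexp n n.2, Perm.one_apply] at h
    obtain ⟨q, hq⟩ : ∃ q, ∑ l ∈ Finset.range p, l = p * q := by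
      refine ⟨(p - 1) / 2, ?_⟩
      rw [Finset.sum_range_id]
      obtain ⟨q, hq⟩ := hp.odd_of_ne_two hp2
      rw [Nat.mul_div_assoc _ (by omega)]
    rw [hq, Nat.cast_mul, hs, nsmul_eq_mul] at h
    linear_combination (-1 : ZMod (p ^ a)) * h + n0 * (q : ZMod (p ^ a)) * (k : ZMod (p ^ a)) * hpM
  obtain ⟨l, hl⟩ : ∃ l : ℕ, n0 = l • M := by
    rw [← ZMod.natCast_rightInverse n0, ← Nat.cast_mul, ZMod.natCast_eq_zero_iff] at hp0
    have hd : p ^ (a - 1) ∣ n0.val := by
      refine (Nat.mul_dvd_mul_iff_left hp.pos).1 ?_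
      rwa [← pow_succ', show a - 1 + 1 = a by omega]
    obtain ⟨l, hl⟩ := hd
    refine ⟨l, ?_⟩
    rw [← ZMod.natCast_rightInverse n0, hl, nsmul_eq_mul, hMdef]
    push_cast
    ring
  have hDpow : ∀ j : ℕ, ((D n ^ j : N) : Perm (ZMod (p ^ a))) 0 = (j * k) • M := by
    intro j
    induction j with
    | zero => simp
    | succ j ih => rw [pow_succ', Subgroup.coe_mul, Perm.mul_apply, ih, hk, hs, add_mul, one_mul, add_nsmul]
  have hkp : ((k : ℕ) : ZMod p) ≠ 0 := by
    intro h
    obtain ⟨d, rfl⟩ := (ZMod.natCast_eq_zero_iff k p).1 h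
    apply hs0
    rw [hs, nsmul_eq_mul]
    push_cast
    linear_combination (d : ZMod (p ^ a)) * hpM
  obtain ⟨j, hj⟩ : ∃ j : ℕ, (j * k) • M = l • M := by
    refine ⟨((l : ZMod p) / (k : ZMod p)).val, ?_⟩
    set w := ((l : ZMod p) / (k : ZMod p)).val * k with hw
    have hmod : w % p = l % p := by
      rw [← ZMod.natCast_eq_natCast_iff', hw, Nat.cast_mul, ZMod.natCast_rightInverse,
        div_mul_cancel₀ _ hkp]
    have hpM' : p • M = 0 := by rw [nsmul_eq_mul]; exact hpM
    rw [← Nat.mod_add_div w p, ← Nat.mod_add_div l p, hmod, add_nsmul, add_nsmul, mul_nsmul, mul_nsmul,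
      hpM', nsmul_zero, nsmul_zero]
  refine hn1 ?_
  have hn' : n = D n ^ j := Subtype.ext (huniq _ n.2 _ (D n ^ j).2 (by rw [hDpow, hj, ← hl]))
  calc D n = D (D n ^ j) := congrArg D hn'
    _ = 1 := by rw [map_pow, hn2, one_pow]

/-- A non-trivial solvable group has a non-trivial abelian normal subgroup. -/
theorem exists_abelian {G : Type*} [Group G] (L : Subgroup G) [Group.IsSolvable L] (hL : L ≠ ⊥) :
    ∃ N : Subgroup G, N ≠ ⊥ ∧ (∀ g ∈ L, ∀ n ∈ N, g * n * g⁻¹ ∈ N) ∧
      ∀ x ∈ N, ∀ y ∈ N, x * y = y * x := by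
  classical
  obtain ⟨m, hm⟩ := (Group.isSolvable_def ↥L).1 inferInstance
  have hex : ∃ k, derivedSeries L k = ⊥ := ⟨m, hm⟩
  have h0 : Nat.find hex ≠ 0 := by
    intro h
    have := Nat.find_spec hex
    rw [h, derivedSeries_zero] at this
    haveI hnt := (Subgroup.nontrivial_iff_ne_bot L).2 hL
    exact top_ne_bot this
  obtain ⟨k, hk⟩ := Nat.exists_eq_succ_of_ne_zero h0
  have hne : derivedSeries L k ≠ ⊥ := Nat.find_min hex (by omega)
  have hnext : derivedSeries L (k + 1) = ⊥ := by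
    have := Nat.find_spec hex; rwa [hk] at this
  refine ⟨(derivedSeries L k).map L.subtype, ?_, ?_, ?_⟩
  · rwa [Ne, Subgroup.map_eq_bot_iff_of_injective _ L.subtype_injective]
  · rintro g hg _ ⟨n, hn, rfl⟩
    exact ⟨⟨g, hg⟩ * n * ⟨g, hg⟩⁻¹, (derivedSeries_normal L k).conj_mem n hn _, rfl⟩
  · rintro _ ⟨x, hx, rfl⟩ _ ⟨y, hy, rfl⟩
    have h : ⁅x, y⁆ = 1 := by
      rw [← Subgroup.mem_bot, ← hnext, derivedSeries_succ]
      exact Subgroup.commutator_mem_commutator hx hy
    exact congrArg Subtype.val (commutatorElement_eq_one_iff_mul_comm.1 h)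

theorem eq_one_of_orbit {m : ℕ} {N : Subgroup (Perm (ZMod m))} {H : AddSubgroup (ZMod m)}
    (h : ∀ n ∈ N, ∀ i, n i - i ∈ H) (hH : ∀ x ∈ H, x = 0) : N = ⊥ :=
  (Subgroup.eq_bot_iff_forall _).2 fun n hn => Perm.ext fun i => sub_eq_zero.1 (hH _ (h n hn i))

/-- In a solvable group containing the cycle every element preserves congruence mod `p`. -/
theorem congr_of_solvable (hp : p.Prime) (hp2 : p ≠ 2) :
    ∀ (a : ℕ) (ha : 2 ≤ a) (L : Subgroup (Perm (ZMod (p ^ a)))) [Group.IsSolvable L],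
      shift (p ^ a) ∈ L → ∀ g ∈ L, ∀ i j,
        ZMod.castHom (dvd_pow_self p (show a ≠ 0 by omega)) (ZMod p) (i - j) = 0 →
        ZMod.castHom (dvd_pow_self p (show a ≠ 0 by omega)) (ZMod p) (g i - g j) = 0 := by
  intro a
  induction a using Nat.strong_induction_on with
  | _ a ih =>
    intro ha L _ hcL g hg i j hij
    haveI := Fact.mk hp
    haveI : NeZero (p ^ a) := ⟨(pow_pos hp.pos _).ne'⟩
    set c := shift (p ^ a) with hcdef
    have hL : L ≠ ⊥ := by
      intro h
      rw [h, Subgroup.mem_bot] at hcL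
      have h1 := congrFun (congrArg DFunLike.coe hcL) 0
      rw [hcdef, shift_apply, zero_add, Perm.one_apply] at h1
      exact natCast_prime_pow_ne_zero hp (show 0 < a by omega) (by simpa using h1)
    obtain ⟨N, hN1, hNn, hNab⟩ := exists_abelian L hL
    -- reduce to an intransitive normal subgroup
    have main : ∀ N : Subgroup (Perm (ZMod (p ^ a))), N ≠ ⊥ →
        (∀ g ∈ L, ∀ n ∈ N, g * n * g⁻¹ ∈ N) → (∃ i, ¬ ∃ n ∈ N, n 0 = i) →
        ZMod.castHom (dvd_pow_self p (show a ≠ 0 by omega)) (ZMod p) (g i - g j) = 0 := by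
      intro N hN1 hNn hint
      obtain ⟨H, hH, hHn, hHc⟩ := orbit_congr hcL hNn
      obtain ⟨r, hra, hr⟩ := addSubgroup_zmod hp H
      set φ := ZMod.castHom (Nat.pow_dvd_pow p hra) (ZMod (p ^ r)) with hφ
      have hr0 : r ≠ 0 := by
        rintro rfl
        obtain ⟨x, hx⟩ := hint
        refine hx ((hH x).1 ((hr x).2 ?_))
        haveI : Subsingleton (ZMod (p ^ 0)) := by rw [pow_zero]; infer_instance
        exact Subsingleton.elim _ _
      have hra' : r < a := by
        refine lt_of_le_of_ne hra ?_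
        rintro rfl
        refine hN1 (eq_one_of_orbit hHn fun x hx => ?_)
        have h := (hr x).1 hx
        rwa [hφ, ZMod.castHom_self, RingHom.id_apply] at h
      have hψ : ∀ x, ZMod.castHom (dvd_pow_self p (show a ≠ 0 by omega)) (ZMod p) x =
          ZMod.castHom (dvd_pow_self p hr0) (ZMod p) (φ x) := fun x =>
        congrFun (congrArg DFunLike.coe (RingHom.ext_zmod _
          ((ZMod.castHom (dvd_pow_self p hr0) (ZMod p)).comp φ))) x
      rw [hψ] at hij ⊢
      by_cases hr1 : r = 1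
      · subst hr1
        have hinj := (ZMod.castHom (dvd_pow_self p (one_ne_zero)) (ZMod p) : ZMod (p ^ 1) →+* ZMod p)
        have hij' : φ (i - j) = 0 := by
          refine (map_eq_zero_iff _ ?_).1 hij
          exact (ZMod.ringHom_surjective _).injective_of_finite
            (Equiv.cast (congrArg ZMod (pow_one p)))
        rw [(hr _).1 (hHc g hg i j ((hr _).2 hij')), map_zero]
      haveI : NeZero (p ^ r) := ⟨(pow_pos hp.pos _).ne'⟩
      have hφs : Function.Surjective φ := ZMod.castHom_surjective _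
      -- the group induced on residues mod `p^r`
      let K : Subgroup (Perm (ZMod (p ^ a)) × Perm (ZMod (p ^ r))) :=
        { carrier := {x | ∀ i, φ (x.1 i) = x.2 (φ i)}
          one_mem' := fun i => rfl
          mul_mem' := fun {x y} hx hy i => by
            show φ (x.1 (y.1 i)) = x.2 (y.2 (φ i))
            rw [hx, hy]
          inv_mem' := fun {x} hx i => by
            show φ (x.1⁻¹ i) = x.2⁻¹ (φ i)
            rw [eq_comm, Perm.inv_eq_iff_eq, ← hx]
            simp }
      set K' := K ⊓ L.prod ⊤ with hK'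
      set L' := K'.map (MonoidHom.snd _ _) with hL'
      have hKuniq : ∀ h : Perm (ZMod (p ^ r)), ((1 : Perm (ZMod (p ^ a))), h) ∈ K → h = 1 := fun h hh =>
        Perm.ext fun y => by
          obtain ⟨x, rfl⟩ := hφs y
          exact (hh x).symm
      have hlift : ∀ g ∈ L, ∃ h, (g, h) ∈ K' := by
        intro g hg
        have hw : ∀ x y, φ x = φ y → φ (g x) = φ (g y) := fun x y hxy => by
          rw [← sub_eq_zero, ← map_sub]
          exact (hr _).1 (hHc g hg x y ((hr _).2 (by rw [map_sub, hxy, sub_self])))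
        let F : ZMod (p ^ r) → ZMod (p ^ r) := fun y => φ (g (Function.surjInv hφs y))
        have hF : ∀ x, F (φ x) = φ (g x) := fun x => hw _ _ (Function.surjInv_eq hφs _)
        have hFs : Function.Surjective F := fun y => by
          obtain ⟨x, rfl⟩ := hφs y
          exact ⟨φ (g⁻¹ x), by rw [hF]; simp⟩
        exact ⟨Equiv.ofBijective F ⟨hFs.injective_of_finite (Equiv.refl _), hFs⟩,
          fun x => (hF x).symm, hg, Subgroup.mem_top _⟩
      haveI : Group.IsSolvable K' := by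
        let f : K' →* L := ((MonoidHom.fst _ _).comp K'.subtype).codRestrict L fun x => x.2.2.1
        refine solvable_of_solvable_injective (f := f) ((injective_iff_map_eq_one f).2 fun x hx => ?_)
        have h1 : (x : Perm (ZMod (p ^ a)) × Perm (ZMod (p ^ r))).1 = 1 := congrArg Subtype.val hx
        exact Subtype.ext (Prod.ext h1 (hKuniq _ (by rw [← h1]; exact x.2.1)))
      haveI : Group.IsSolvable L' := solvable_of_surjective
        (f := (MonoidHom.snd _ _).subgroupMap K') (MonoidHom.subgroupMap_surjective _ _)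
      have hc' : shift (p ^ r) ∈ L' :=
        ⟨(c, shift (p ^ r)), ⟨fun x => by rw [hcdef, shift_apply, map_add, map_one, shift_apply],
          hcL, Subgroup.mem_top _⟩, rfl⟩
      obtain ⟨h, hh⟩ := hlift g hg
      rw [map_sub, hh.1 i, hh.1 j]
      rw [map_sub] at hij
      exact ih r hra' (by omega) L' hc' h ⟨(g, h), hh, rfl⟩ (φ i) (φ j) hij
    by_cases hint : ∃ i, ¬ ∃ n ∈ N, n 0 = i
    · exact main N hN1 hNn hint
    push Not at hint
    -- the elements of order dividing `p`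
    let N' : Subgroup (Perm (ZMod (p ^ a))) :=
      { carrier := {x | x ∈ N ∧ x ^ p = 1}
        one_mem' := ⟨one_mem _, one_pow p⟩
        mul_mem' := fun {x y} hx hy => ⟨mul_mem hx.1 hy.1, by
          rw [(show Commute x y from hNab x hx.1 y hy.1).mul_pow, hx.2, hy.2, one_mul]⟩
        inv_mem' := fun {x} hx => ⟨inv_mem hx.1, by rw [inv_pow, hx.2, inv_one]⟩ }
    have hN'n : ∀ g ∈ L, ∀ n ∈ N', g * n * g⁻¹ ∈ N' := fun g hg n hn =>
      ⟨hNn g hg n hn.1, by rw [conj_pow, hn.2, mul_one, mul_inv_cancel]⟩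
    have hN'1 : N' ≠ ⊥ := by
      have hcard : Nat.card N = p ^ a := by
        have huniq : ∀ x ∈ N, ∀ y ∈ N, x 0 = y 0 → x = y := by
          intro x hx y hy h
          refine Perm.ext fun i => ?_
          obtain ⟨n, hn, rfl⟩ := hint i
          rw [← Perm.mul_apply, ← Perm.mul_apply, hNab x hx n hn, hNab y hy n hn, Perm.mul_apply,
            Perm.mul_apply, h]
        rw [Nat.card_congr (Equiv.ofBijective (fun n : N => (n : Perm (ZMod (p ^ a))) 0)
          ⟨fun x y h => Subtype.ext (huniq x x.2 y y.2 h), fun i => by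
            obtain ⟨n, hn, h⟩ := hint i; exact ⟨⟨n, hn⟩, h⟩⟩), Nat.card_zmod]
      obtain ⟨x, hx⟩ := exists_prime_orderOf_dvd_card' p (G := N) (by rw [hcard]; exact dvd_pow_self p (by omega))
      intro h
      have hxN : (x : Perm (ZMod (p ^ a))) ∈ N' := ⟨x.2, by
        have h2 := pow_orderOf_eq_one x
        rw [hx] at h2
        exact_mod_cast congrArg Subtype.val h2⟩
      rw [h, Subgroup.mem_bot] at hxN
      rw [show x = 1 from Subtype.ext hxN, orderOf_one] at hx
      exact hp.ne_one hx.symm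
    by_cases hint' : ∃ i, ¬ ∃ n ∈ N', n 0 = i
    · exact main N' hN'1 hN'n hint'
    push Not at hint'
    exact (no_regular hp hp2 ha N' (fun x hx y hy => hNab x hx.1 y hy.1) (fun x hx => hx.2) hint'
      fun n hn => hN'n c hcL n hn).elim

/-- In a solvable group of prime degree containing the cycle every element is affine. -/
theorem affine_of_solvable (hp : p.Prime) (L : Subgroup (Perm (ZMod p))) [Group.IsSolvable L]
    (hcL : shift p ∈ L) : ∀ g ∈ L, ∀ i, g i = g 0 + i * (g 1 - g 0) := by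
  classical
  haveI := Fact.mk hp
  intro g hg
  have hL : L ≠ ⊥ := by
    intro h
    rw [h, Subgroup.mem_bot] at hcL
    have h1 := congrFun (congrArg DFunLike.coe hcL) 0
    rw [shift_apply, zero_add, Perm.one_apply] at h1
    exact one_ne_zero h1
  obtain ⟨N, hN1, hNn, hNab⟩ := exists_abelian L hL
  obtain ⟨H, hH, hHn, -⟩ := orbit_congr hcL hNn
  have htr : ∀ i, ∃ n ∈ N, n 0 = i := by
    intro i
    rw [← hH]
    rcases H.eq_bot_or_eq_top_of_prime_card (hp := ⟨by rwa [Nat.card_zmod]⟩) with h | h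
    · refine absurd (eq_one_of_orbit hHn fun x hx => ?_) hN1
      rwa [h, AddSubgroup.mem_bot] at hx
    · rw [h]; trivial
  have huniq : ∀ x ∈ N, ∀ y ∈ N, x 0 = y 0 → x = y := by
    intro x hx y hy h
    refine Perm.ext fun i => ?_
    obtain ⟨n, hn, rfl⟩ := htr i
    rw [← Perm.mul_apply, ← Perm.mul_apply, hNab x hx n hn, hNab y hy n hn, Perm.mul_apply,
      Perm.mul_apply, h]
  let e : N ≃ ZMod p := Equiv.ofBijective (fun n => (n : Perm (ZMod p)) 0)
    ⟨fun x y h => Subtype.ext (huniq x x.2 y y.2 h), fun i => by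
      obtain ⟨n, hn, h⟩ := htr i; exact ⟨⟨n, hn⟩, h⟩⟩
  haveI : Fintype N := Fintype.ofFinite _
  let σ : Perm N := Equiv.ofBijective (fun x => ⟨shift p * x * (shift p)⁻¹, hNn _ hcL x x.2⟩)
    (Finite.injective_iff_bijective.1 fun x y h => Subtype.ext
      (mul_left_cancel (mul_right_cancel (congrArg Subtype.val h))))
  have hσpow : ∀ (j : ℕ) (x : N), (((σ ^ j) x : N) : Perm (ZMod p)) =
      shift p ^ j * x * (shift p ^ j)⁻¹ := by
    intro j
    induction j with
    | zero => intro x; simp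
    | succ j ih =>
      intro x
      rw [pow_succ', Perm.mul_apply]
      show shift p * ((σ ^ j) x : N) * (shift p)⁻¹ = _
      rw [ih, pow_succ', mul_inv_rev]
      simp only [mul_assoc]
  have hσ : σ ^ p ^ 1 = 1 := Perm.ext fun x => Subtype.ext (by
    have hcp : shift p ^ p = 1 := Perm.ext fun x => by
      rw [shift_pow_apply, ZMod.natCast_self, add_zero]; rfl
    rw [pow_one, hσpow, hcp]; simp)
  obtain ⟨b, hb, hb1⟩ := Equiv.Perm.exists_fixed_point_of_prime'
    (by rw [← Nat.card_eq_fintype_card, Nat.card_congr e, Nat.card_zmod] : p ∣ Fintype.card N)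
    hσ (a := 1) (Subtype.ext (by show shift p * 1 * (shift p)⁻¹ = 1; simp))
  have hb' : (b : Perm (ZMod p)) * shift p = shift p * b :=
    (mul_inv_eq_iff_eq_mul.1 (congrArg Subtype.val hb)).symm
  have hbt := commute_shift hb'
  have hb0 : (b : Perm (ZMod p)) 0 ≠ 0 := fun h => hb1 (Subtype.ext (Perm.ext fun i => by
    rw [hbt, h, zero_add]; rfl))
  have hcN : shift p ∈ N := by
    have e1 : (b : Perm (ZMod p)) ^ ((b : Perm (ZMod p)) 0)⁻¹.val = shift p := by
      have key : ∀ (j : ℕ) (i : ZMod p), ((b : Perm (ZMod p)) ^ j) i = i + (j : ZMod p) * (b : Perm (ZMod p)) 0 := by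
        intro j
        induction j with
        | zero => intro i; simp
        | succ j ih => intro i; rw [pow_succ', Perm.mul_apply, ih, hbt]; push_cast; ring
      refine Perm.ext fun i => ?_
      rw [key, ZMod.natCast_rightInverse, inv_mul_cancel₀ hb0, shift_apply]
    rw [← e1]
    exact pow_mem b.2 _
  set t := g * shift p * g⁻¹ with ht
  have htN : t ∈ N := hNn g hg _ hcN
  have htt := commute_shift (hNab t htN _ hcN)
  have hstep : ∀ i, g (i + 1) = g i + t 0 := by
    intro i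
    have : t (g i) = g (i + 1) := by
      rw [ht]; simp [shift_apply]
    rw [← this, htt, add_comm]
  have key : ∀ j : ℕ, g (j : ZMod p) = g 0 + (j : ZMod p) * t 0 := by
    intro j
    induction j with
    | zero => simp
    | succ j ih => push_cast; rw [hstep, ih]; ring
  intro i
  have h1 : g 1 - g 0 = t 0 := by
    have := hstep 0; rw [zero_add] at this; rw [this]; ring
  rw [h1]
  simpa using key i.val

end Cfsg.Agent.AltPPair
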