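import Cfsg.Agent.Lib.AltPPair.Basic

/-!
Products of `3`-cycles on five and six points.
-/

set_option autoImplicit false

namespace Cfsg.Agent.AltPPair

open Equiv
open scoped commutatorElement

set_option maxRecDepth 8000

theorem not_solvable_of_commutators {G : Type*} [Group G] {s v w₁ w₂ w₃ w₄ : G}
    (h₁ : w₁ ∈ Subgroup.closure ({s, v} : Set G)) (h₂ : w₂ ∈ Subgroup.closure ({s, v} : Set G))
    (h₃ : w₃ ∈ Subgroup.closure ({s, v} : Set G)) (h₄ : w₄ ∈ Subgroup.closure ({s, v} : Set G))
    (hs : ⁅w₁, w₂⁆ = s) (hv : ⁅w₃, w₄⁆ = v) (hs1 : s ≠ 1) :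
    ¬ Group.IsSolvable ↥(Subgroup.closure ({s, v} : Set G)) := by
  intro h
  set L := Subgroup.closure ({s, v} : Set G) with hL
  haveI := h
  haveI : Nontrivial L := ⟨⟨⟨s, Subgroup.subset_closure (Or.inl rfl)⟩, 1,
    fun e => hs1 (congrArg Subtype.val e)⟩⟩
  refine (Group.IsSolvable.commutator_lt_top_of_nontrivial L).ne ?_
  apply Subgroup.map_injective L.subtype_injective
  rw [Subgroup.map_subtype_commutator, ← MonoidHom.range_eq_map, Subgroup.range_subtype]
  refine le_antisymm (Subgroup.commutator_le.2 fun a ha b hb =>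
    L.mul_mem (L.mul_mem (L.mul_mem ha hb) (L.inv_mem ha)) (L.inv_mem hb)) ?_
  conv_lhs => rw [hL]
  rw [Subgroup.closure_le]
  rintro _ (rfl | rfl)
  · exact hs ▸ Subgroup.commutator_mem_commutator h₁ h₂
  · exact hv ▸ Subgroup.commutator_mem_commutator h₃ h₄

variable {n : ℕ}

/-- Evaluate a word in two letters. -/
def word {G : Type*} [Monoid G] (s v : G) (l : List Bool) : G :=
  (l.map fun b => bif b then s else v).prod

theorem word_mem {G : Type*} [Group G] (s v : G) (l : List Bool) :
    word s v l ∈ Subgroup.closure ({s, v} : Set G) := by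
  refine list_prod_mem fun x hx => ?_
  obtain ⟨b, -, rfl⟩ := List.mem_map.1 hx
  cases b
  · exact Subgroup.subset_closure (Or.inr rfl)
  · exact Subgroup.subset_closure (Or.inl rfl)

theorem good_of_words {p q : ℕ} (hp : p.Prime) (hq : q.Prime) (hpq : q ≠ p) (s v : Perm (Fin n))
    (x : Fin n) (l₁ l₂ l₃ l₄ : List Bool)
    (h : (s * v) x ≠ x ∧ ((s * v) ^ q) x = x ∧ s ≠ 1 ∧
      ⁅word s v l₁, word s v l₂⁆ = s ∧ ⁅word s v l₃, word s v l₄⁆ = v) : Good p s v :=
  ⟨not_ppow_of_period hp hq hpq _ x h.1 h.2.1,
    not_solvable_of_commutators (word_mem s v l₁) (word_mem s v l₂) (word_mem s v l₃) (word_mem s v l₄)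
      h.2.2.2.1 h.2.2.2.2 h.2.2.1⟩

theorem exists_sign_of_centralizer {α : Type*} [Fintype α] [DecidableEq α] {p : ℕ} {s t ρ z : Perm α}
    (hg : Good p s (ρ * t * ρ⁻¹)) (hz : z * t = t * z) (hzs : Perm.sign z = -1) (ε : ℤˣ) :
    ∃ τ : Perm α, Perm.sign τ = ε ∧ Good p s (τ * t * τ⁻¹) := by
  by_cases h : Perm.sign ρ = ε
  · exact ⟨ρ, h, hg⟩
  · refine ⟨ρ * z, ?_, ?_⟩
    · rw [map_mul, hzs]
      rcases Int.units_eq_one_or (Perm.sign ρ) with h' | h' <;>
        rcases Int.units_eq_one_or ε with h'' | h'' <;> simp_all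
    · have e : ρ * z * t * (ρ * z)⁻¹ = ρ * t * ρ⁻¹ := by
        rw [mul_assoc ρ z t, hz]; group
      rwa [e]

/-- A `3`-cycle on five points. -/
def three5 : Perm (Fin 5) := Equiv.swap 0 1 * Equiv.swap 1 2

/-- A `3`-cycle on six points. -/
def three6 : Perm (Fin 6) := Equiv.swap 0 1 * Equiv.swap 1 2

/-- Two `3`-cycles on six points. -/
def double6 : Perm (Fin 6) := three6 * (Equiv.swap 3 4 * Equiv.swap 4 5)

theorem small_five {p : ℕ} (hp : p.Prime) (h3 : p = 3) (ε : ℤˣ) :
    ∃ τ : Perm (Fin 5), Perm.sign τ = ε ∧ Good p three5 (τ * three5 * τ⁻¹) := by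
  subst h3
  refine exists_sign_of_centralizer (ρ := Equiv.swap 1 3 * Equiv.swap 2 4) (z := Equiv.swap 3 4) ?_
    (by decide) (by decide) ε
  exact good_of_words Nat.prime_three Nat.prime_five (by norm_num) _ _ 0
    [true, true] [false, true, true, false, false, true, false]
    [false, false] [true, false, true, true, false, false, true] (by decide)

theorem small_six_aux (i j : Bool) (ε : ℤˣ) :
    ∃ τ : Perm (Fin 6), Perm.sign τ = ε ∧
      Good 3 (bif i then double6 else three6) (τ * (bif j then double6 else three6) * τ⁻¹) := by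
  cases i <;> cases j <;> simp only [cond_true, cond_false]
  · refine exists_sign_of_centralizer (ρ := Equiv.swap 1 3 * Equiv.swap 2 4) (z := Equiv.swap 3 4) ?_
      (by decide) (by decide) ε
    exact good_of_words Nat.prime_three Nat.prime_five (by norm_num) _ _ 0
      [true, true] [false, true, true, false, false, true, false]
      [false, false] [true, false, true, true, false, false, true] (by decide)
  · refine exists_sign_of_centralizer (ρ := Equiv.swap 1 2 * Equiv.swap 2 3)
      (z := Equiv.swap 0 3 * Equiv.swap 1 4 * Equiv.swap 2 5) ?_ (by decide) (by decide) ε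
    exact good_of_words Nat.prime_three Nat.prime_five (by norm_num) _ _ 1
      [true, true] [false, true, false, true, true, false, true, false, false]
      [false, false] [true, true, false, true, false, false, true, false, true] (by decide)
  · refine exists_sign_of_centralizer (ρ := Equiv.swap 1 2 * Equiv.swap 2 3) (z := Equiv.swap 3 4) ?_
      (by decide) (by decide) ε
    exact good_of_words Nat.prime_three Nat.prime_five (by norm_num) _ _ 1
      [true, true] [false, true, false, true, true, false, true, false, false]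
      [false, false] [true, true, false, true, false, false, true, false, true] (by decide)
  · refine exists_sign_of_centralizer (ρ := Equiv.swap 2 3 * Equiv.swap 4 5)
      (z := Equiv.swap 0 3 * Equiv.swap 1 4 * Equiv.swap 2 5) ?_ (by decide) (by decide) ε
    exact good_of_words Nat.prime_three Nat.prime_five (by norm_num) _ _ 0
      [true, true] [false, true, true, false, false, true, false]
      [false, false] [true, false, true, true, false, false, true] (by decide)

theorem small_six {p : ℕ} (h3 : p = 3) {s t : Perm (Fin 6)} (hs : s = three6 ∨ s = double6)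
    (ht : t = three6 ∨ t = double6) (ε : ℤˣ) :
    ∃ τ : Perm (Fin 6), Perm.sign τ = ε ∧ Good p s (τ * t * τ⁻¹) := by
  subst h3
  rcases hs with rfl | rfl <;> rcases ht with rfl | rfl
  · exact small_six_aux false false ε
  · exact small_six_aux false true ε
  · exact small_six_aux true false ε
  · exact small_six_aux true true ε

end Cfsg.Agent.AltPPair
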