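import Cfsg.Agent.Lib.AltPPair.Core
import Cfsg.Agent.Lib.AltPPair.Small

/-!
Two `p`-elements of an alternating group: a conjugate of one with the other gives a product not of
`p`-power order and a non-solvable group.
-/

set_option autoImplicit false

namespace Cfsg.Agent.AltPPair

open Equiv

variable {α β : Type*} [Fintype α] [DecidableEq α]

theorem iterate_map {W : Perm α} {t : Perm β} {κ : β → α} (h : ∀ i, W (κ i) = κ (t i)) (k : ℕ)
    (i : β) : (W ^ k) (κ i) = κ ((t ^ k) i) := by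
  induction k with
  | zero => rfl
  | succ k ih => rw [pow_succ', pow_succ', Perm.mul_apply, Perm.mul_apply, ih, h]

theorem glue {p : ℕ} (hp : p.Prime) [Fintype β] [DecidableEq β] {U W : Perm α} {ι κ : β → α}
    (hι : Function.Injective ι) (hκ : Function.Injective κ) {c t : Perm β}
    (hU : ∀ i, U (ι i) = ι (c i)) (hW : ∀ i, W (κ i) = κ (t i))
    (hcore : ∀ ε : ℤˣ, ∃ τ : Perm β, Perm.sign τ = ε ∧ Good p c (τ * t * τ⁻¹)) :
    ∃ σ : Perm α, Perm.sign σ = 1 ∧ Good p U (σ * W * σ⁻¹) := by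
  obtain ⟨σ₀, hσ₀⟩ := exists_perm_extend κ ι hκ hι
  obtain ⟨τ, hτs, hg⟩ := hcore (Perm.sign σ₀)
  refine ⟨τ.viaFintypeEmbedding ⟨ι, hι⟩ * σ₀, ?_, hg.lift hp hι hU fun i => ?_⟩
  · have hs : Perm.sign (τ.viaFintypeEmbedding ⟨ι, hι⟩) = Perm.sign τ := Perm.sign_extendDomain τ _
    rw [map_mul, hs, hτs, Int.units_mul_self]
  · have key : ∀ j, (τ.viaFintypeEmbedding ⟨ι, hι⟩ * σ₀) (κ j) = ι (τ j) := fun j => by
      rw [Perm.mul_apply, hσ₀]
      exact Perm.viaFintypeEmbedding_apply_image τ ⟨ι, hι⟩ j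
    refine conj_apply_of _ W (hW (τ⁻¹ i)) ?_ ?_
    · rw [key, ← Perm.mul_apply, mul_inv_cancel, Perm.one_apply]
    · rw [key]; rfl

theorem card_orbit_set (W : Perm α) (z : α) :
    ((Finset.range (Function.minimalPeriod W z)).image fun i => W^[i] z).card =
      Function.minimalPeriod W z := by
  rw [Finset.card_image_of_injOn, Finset.card_range]
  intro i hi j hj h
  exact Function.iterate_injOn_Iio_minimalPeriod (Finset.mem_range.1 hi) (Finset.mem_range.1 hj) h

theorem mem_orbit_set {W : Perm α} {z w : α} :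
    w ∈ (Finset.range (Function.minimalPeriod W z)).image (fun i => W^[i] z) ↔
      ∃ k : ℕ, W^[k] z = w := by
  simp only [Finset.mem_image, Finset.mem_range]
  constructor
  · rintro ⟨k, -, h⟩; exact ⟨k, h⟩
  · rintro ⟨k, rfl⟩
    have hpos : 0 < Function.minimalPeriod W z :=
      Function.minimalPeriod_pos_of_mem_periodicPts (W.injective.mem_periodicPts z)
    exact ⟨k % _, Nat.mod_lt _ hpos, Function.iterate_mod_minimalPeriod_eq⟩

theorem orbit_invariant {W : Perm α} {z w : α} :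
    (∃ k : ℕ, W^[k] z = W w) ↔ ∃ k : ℕ, W^[k] z = w := by
  constructor
  · rintro ⟨k, hk⟩
    refine ⟨k + (Function.minimalPeriod W z - 1), ?_⟩
    apply W.injective
    have hpos : 0 < Function.minimalPeriod W z :=
      Function.minimalPeriod_pos_of_mem_periodicPts (W.injective.mem_periodicPts z)
    rw [← Function.iterate_succ_apply' W, ← hk,
      show (k + (Function.minimalPeriod W z - 1)).succ = k + Function.minimalPeriod W z by omega,
      Function.iterate_add_apply, Function.iterate_minimalPeriod]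
  · rintro ⟨k, rfl⟩
    exact ⟨k + 1, Function.iterate_succ_apply' W k z⟩

/-- An invariant set of any larger prime power size around a point of largest orbit. -/
theorem exists_invariant {p : ℕ} (hp : p.Prime) {W : Perm α} {N : ℕ} (hW : W ^ (p ^ N) = 1)
    {b : α} (hb : ∀ z, Function.minimalPeriod W z ≤ Function.minimalPeriod W b) {a : ℕ}
    (hba : Function.minimalPeriod W b ≤ p ^ a) (han : p ^ a ≤ Fintype.card α) :
    ∃ S : Finset α, S.card = p ^ a ∧ b ∈ S ∧ ∀ z, z ∈ S ↔ W z ∈ S := by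
  have dvd_of_le : ∀ {x y : ℕ}, (∃ s, x = p ^ s) → (∃ s, y = p ^ s) → x ≤ y → x ∣ y := by
    rintro _ _ ⟨s, rfl⟩ ⟨s', rfl⟩ h
    exact Nat.pow_dvd_pow p ((Nat.pow_le_pow_iff_right hp.one_lt).1 h)
  have key : ∀ (d : ℕ) (S : Finset α), p ^ a - S.card = d → S.card ≤ p ^ a → b ∈ S →
      (∀ z, z ∈ S ↔ W z ∈ S) → (∀ z ∉ S, Function.minimalPeriod W z ∣ S.card) →
      ∃ S : Finset α, S.card = p ^ a ∧ b ∈ S ∧ ∀ z, z ∈ S ↔ W z ∈ S := by
    intro d
    induction d using Nat.strong_induction_on with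
    | _ d ih =>
      intro S hd hle hbS hinv hdiv
      rcases eq_or_lt_of_le hle with h | h
      · exact ⟨S, h, hbS, hinv⟩
      have hne : (Sᶜ : Finset α).Nonempty := by
        rw [← Finset.card_pos, Finset.card_compl]; omega
      obtain ⟨z, hz, hzmax⟩ := Finset.exists_max_image Sᶜ (fun z => Function.minimalPeriod W z) hne
      rw [Finset.mem_compl] at hz
      set O := (Finset.range (Function.minimalPeriod W z)).image (fun i => W^[i] z) with hO
      have hdisj : Disjoint S O := by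
        rw [Finset.disjoint_right]
        intro w hw hwS
        rw [hO, mem_orbit_set] at hw
        obtain ⟨k, rfl⟩ := hw
        apply hz
        induction k with
        | zero => exact hwS
        | succ k ihk =>
          rw [Function.iterate_succ_apply', ← hinv] at hwS
          exact ihk hwS
      have hcard : (S ∪ O).card = S.card + Function.minimalPeriod W z := by
        rw [Finset.card_union_of_disjoint hdisj, hO, card_orbit_set]
      have hpos : 0 < Function.minimalPeriod W z :=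
        Function.minimalPeriod_pos_of_mem_periodicPts (W.injective.mem_periodicPts z)
      have hza : Function.minimalPeriod W z ∣ p ^ a := by
        obtain ⟨s, hs⟩ := minimalPeriod_eq_pow hp hW z
        exact dvd_of_le ⟨s, hs⟩ ⟨a, rfl⟩ ((hb z).trans hba)
      have hle' : (S ∪ O).card ≤ p ^ a := by
        rw [hcard]
        obtain ⟨u, hu⟩ := hdiv z hz
        obtain ⟨w, hw⟩ := hza
        have : u < w := Nat.lt_of_mul_lt_mul_left (a := Function.minimalPeriod W z) (by omega)
        calc S.card + Function.minimalPeriod W z = Function.minimalPeriod W z * (u + 1) := by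
              rw [hu]; ring
          _ ≤ Function.minimalPeriod W z * w := Nat.mul_le_mul_left _ this
          _ = p ^ a := hw.symm
      refine ih _ (by omega) (S ∪ O) rfl hle' (Finset.mem_union_left _ hbS) (fun w => ?_)
        (fun w hw => ?_)
      · simp only [Finset.mem_union, hO, mem_orbit_set, orbit_invariant]
        rw [← hinv]
      · rw [hcard]
        rw [Finset.mem_union, not_or] at hw
        exact Nat.dvd_add (hdiv w hw.1) (dvd_of_le (minimalPeriod_eq_pow hp hW w)
          (minimalPeriod_eq_pow hp hW z) (hzmax w (Finset.mem_compl.2 hw.1)))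
  refine key _ ((Finset.range (Function.minimalPeriod W b)).image fun i => W^[i] b) rfl
    (by rw [card_orbit_set]; exact hba) ?_ (fun z => ?_) (fun z _ => ?_)
  · rw [mem_orbit_set]; exact ⟨0, rfl⟩
  · rw [mem_orbit_set, mem_orbit_set, orbit_invariant]
  · rw [card_orbit_set]
    exact dvd_of_le (minimalPeriod_eq_pow hp hW z) (minimalPeriod_eq_pow hp hW b) (hb z)

theorem core_any {p : ℕ} (hp : p.Prime) (hp3 : 3 ≤ p) {A a : ℕ} (hA : A = p ^ a) (hA5 : 5 ≤ A)
    [NeZero A] (v : Perm (ZMod A)) (hv1 : v ≠ 1) {N : ℕ} (hv : v ^ (p ^ N) = 1) (ε : ℤˣ) :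
    ∃ τ : Perm (ZMod A), Perm.sign τ = ε ∧ Good p (shift A) (τ * v * τ⁻¹) := by
  haveI := Fact.mk hp
  rcases Nat.lt_or_ge a 2 with h | h
  · interval_cases a
    · rw [pow_zero] at hA; omega
    · rw [pow_one] at hA
      subst hA
      exact core_prime hA5 v hv1 hv ε
  · subst hA
    exact core_pow (by omega) h v hv1 hv ε

/-- A three-point orbit. -/
theorem three_orbit {W : Perm α} {b : α} (h : Function.minimalPeriod W b = 3) :
    W (W (W b)) = b ∧ Function.Injective ![b, W b, W (W b)] := by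
  refine ⟨?_, fun i j hij => ?_⟩
  · have h3 := Function.iterate_minimalPeriod (f := (W : α → α)) (x := b)
    rw [h] at h3
    exact h3
  · apply Fin.ext
    refine Function.iterate_injOn_Iio_minimalPeriod (f := W) (x := b) (Set.mem_Iio.2 (h ▸ i.2))
      (Set.mem_Iio.2 (h ▸ j.2)) ?_
    fin_cases i <;> fin_cases j <;> first | rfl | exact hij

theorem orbit_closed {W : Perm α} {b y : α} (h3 : W (W (W b)) = b)
    (hy : y ≠ b ∧ y ≠ W b ∧ y ≠ W (W b)) : W y ≠ b ∧ W y ≠ W b ∧ W y ≠ W (W b) :=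
  ⟨fun e => hy.2.2 (W.injective (e.trans h3.symm)), fun e => hy.1 (W.injective e),
    fun e => hy.2.1 (W.injective e)⟩

theorem exists_six {W : Perm α} (hcard : 6 ≤ Fintype.card α) {b : α}
    (hb : Function.minimalPeriod W b = 3)
    (hall : ∀ z, W z ≠ z → Function.minimalPeriod W z = 3) :
    ∃ (ι : Fin 6 → α) (t : Perm (Fin 6)), Function.Injective ι ∧ (t = three6 ∨ t = double6) ∧
      ∀ i, W (ι i) = ι (t i) := by
  obtain ⟨h3, hinj⟩ := three_orbit hb
  have hbb : b ≠ W b ∧ b ≠ W (W b) ∧ W b ≠ W (W b) :=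
    ⟨hinj.ne (show (0 : Fin 3) ≠ 1 by decide), hinj.ne (show (0 : Fin 3) ≠ 2 by decide),
      hinj.ne (show (1 : Fin 3) ≠ 2 by decide)⟩
  by_cases hex : ∃ z, (z ≠ b ∧ z ≠ W b ∧ z ≠ W (W b)) ∧ W z ≠ z
  · obtain ⟨z, hz, hzm⟩ := hex
    obtain ⟨z3, zinj⟩ := three_orbit (hall z hzm)
    have hz1 := orbit_closed h3 hz
    have hz2 := orbit_closed h3 hz1
    refine ⟨![b, W b, W (W b), z, W z, W (W z)], double6,
      vec_injective _ [b, W b, W (W b), z, W z, W (W z)] (by simp [List.ofFn_succ]) ?_,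
      Or.inr rfl, fun i => ?_⟩
    · simp only [List.nodup_cons, List.mem_cons, List.not_mem_nil, or_false, not_or, List.nodup_nil,
        and_true, not_false_eq_true]
      exact ⟨⟨hbb.1, hbb.2.1, Ne.symm hz.1, Ne.symm hz1.1, Ne.symm hz2.1⟩,
        ⟨hbb.2.2, Ne.symm hz.2.1, Ne.symm hz1.2.1, Ne.symm hz2.2.1⟩,
        ⟨Ne.symm hz.2.2, Ne.symm hz1.2.2, Ne.symm hz2.2.2⟩,
        ⟨zinj.ne (show (0 : Fin 3) ≠ 1 by decide), zinj.ne (show (0 : Fin 3) ≠ 2 by decide)⟩,
        zinj.ne (show (1 : Fin 3) ≠ 2 by decide)⟩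
    · fin_cases i <;> simp [double6, three6, Equiv.swap_apply_def, h3, z3]
  · push Not at hex
    obtain ⟨y₁, hy₁, y₂, hy₂, y₃, hy₃, h12, h13, h23⟩ : ∃ y₁ ∈ ({b, W b, W (W b)} : Finset α)ᶜ,
        ∃ y₂ ∈ ({b, W b, W (W b)} : Finset α)ᶜ, ∃ y₃ ∈ ({b, W b, W (W b)} : Finset α)ᶜ,
          y₁ ≠ y₂ ∧ y₁ ≠ y₃ ∧ y₂ ≠ y₃ := by
      have : 2 < ({b, W b, W (W b)} : Finset α)ᶜ.card := by
        rw [Finset.card_compl]
        have := Finset.card_le_three (a := b) (b := W b) (c := W (W b))
        omega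
      exact Finset.two_lt_card.1 this
    simp only [Finset.mem_compl, Finset.mem_insert, Finset.mem_singleton, not_or] at hy₁ hy₂ hy₃
    refine ⟨![b, W b, W (W b), y₁, y₂, y₃], three6,
      vec_injective _ [b, W b, W (W b), y₁, y₂, y₃] (by simp [List.ofFn_succ]) ?_,
      Or.inl rfl, fun i => ?_⟩
    · simp only [List.nodup_cons, List.mem_cons, List.not_mem_nil, or_false, not_or, List.nodup_nil,
        and_true, not_false_eq_true]
      exact ⟨⟨hbb.1, hbb.2.1, Ne.symm hy₁.1, Ne.symm hy₂.1, Ne.symm hy₃.1⟩,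
        ⟨hbb.2.2, Ne.symm hy₁.2.1, Ne.symm hy₂.2.1, Ne.symm hy₃.2.1⟩,
        ⟨Ne.symm hy₁.2.2, Ne.symm hy₂.2.2, Ne.symm hy₃.2.2⟩, ⟨h12, h13⟩, h23⟩
    · fin_cases i <;> simp [three6, Equiv.swap_apply_def, h3, hex y₁ hy₁, hex y₂ hy₂, hex y₃ hy₃]

theorem exists_five {W : Perm α} (hcard : Fintype.card α = 5) {b : α}
    (hb : Function.minimalPeriod W b = 3)
    (hall : ∀ z, W z ≠ z → Function.minimalPeriod W z = 3) :
    ∃ ι : Fin 5 → α, Function.Injective ι ∧ ∀ i, W (ι i) = ι (three5 i) := by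
  obtain ⟨h3, hinj⟩ := three_orbit hb
  have hbb : b ≠ W b ∧ b ≠ W (W b) ∧ W b ≠ W (W b) :=
    ⟨hinj.ne (show (0 : Fin 3) ≠ 1 by decide), hinj.ne (show (0 : Fin 3) ≠ 2 by decide),
      hinj.ne (show (1 : Fin 3) ≠ 2 by decide)⟩
  have hex : ∀ z, (z ≠ b ∧ z ≠ W b ∧ z ≠ W (W b)) → W z = z := by
    intro z hz
    by_contra hzm
    obtain ⟨z3, zinj⟩ := three_orbit (hall z hzm)
    have hz1 := orbit_closed h3 hz
    have hz2 := orbit_closed h3 hz1
    have hi : Function.Injective ![b, W b, W (W b), z, W z, W (W z)] := by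
      refine vec_injective _ [b, W b, W (W b), z, W z, W (W z)] (by simp [List.ofFn_succ]) ?_
      simp only [List.nodup_cons, List.mem_cons, List.not_mem_nil, or_false, not_or, List.nodup_nil,
        and_true, not_false_eq_true]
      exact ⟨⟨hbb.1, hbb.2.1, Ne.symm hz.1, Ne.symm hz1.1, Ne.symm hz2.1⟩,
        ⟨hbb.2.2, Ne.symm hz.2.1, Ne.symm hz1.2.1, Ne.symm hz2.2.1⟩,
        ⟨Ne.symm hz.2.2, Ne.symm hz1.2.2, Ne.symm hz2.2.2⟩,
        ⟨zinj.ne (show (0 : Fin 3) ≠ 1 by decide), zinj.ne (show (0 : Fin 3) ≠ 2 by decide)⟩,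
        zinj.ne (show (1 : Fin 3) ≠ 2 by decide)⟩
    have := Fintype.card_le_of_injective _ hi
    rw [Fintype.card_fin, hcard] at this
    omega
  obtain ⟨y₁, hy₁, y₂, hy₂, h12⟩ : ∃ y₁ ∈ ({b, W b, W (W b)} : Finset α)ᶜ,
      ∃ y₂ ∈ ({b, W b, W (W b)} : Finset α)ᶜ, y₁ ≠ y₂ := by
    have : 1 < ({b, W b, W (W b)} : Finset α)ᶜ.card := by
      rw [Finset.card_compl]
      have := Finset.card_le_three (a := b) (b := W b) (c := W (W b))
      omega
    exact Finset.one_lt_card.1 this
  simp only [Finset.mem_compl, Finset.mem_insert, Finset.mem_singleton, not_or] at hy₁ hy₂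
  refine ⟨![b, W b, W (W b), y₁, y₂],
    vec_injective _ [b, W b, W (W b), y₁, y₂] (by simp [List.ofFn_succ]) ?_, fun i => ?_⟩
  · simp only [List.nodup_cons, List.mem_cons, List.not_mem_nil, or_false, not_or, List.nodup_nil,
      and_true, not_false_eq_true]
    exact ⟨⟨hbb.1, hbb.2.1, Ne.symm hy₁.1, Ne.symm hy₂.1⟩,
      ⟨hbb.2.2, Ne.symm hy₁.2.1, Ne.symm hy₂.2.1⟩, ⟨Ne.symm hy₁.2.2, Ne.symm hy₂.2.2⟩, h12⟩
  · fin_cases i <;> simp [three5, Equiv.swap_apply_def, h3, hex y₁ hy₁, hex y₂ hy₂]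

theorem one_side {p : ℕ} (hp : p.Prime) (hp3 : 3 ≤ p) (hn : 5 ≤ Fintype.card α) {U W : Perm α}
    (hW1 : W ≠ 1) {N : ℕ} (hU : U ^ (p ^ N) = 1) (hW : W ^ (p ^ N) = 1)
    {x b : α} (hx : ∀ z, Function.minimalPeriod U z ≤ Function.minimalPeriod U x)
    (hb : ∀ z, Function.minimalPeriod W z ≤ Function.minimalPeriod W b)
    (hbx : Function.minimalPeriod W b ≤ Function.minimalPeriod U x) :
    ∃ σ : Perm α, Perm.sign σ = 1 ∧ Good p U (σ * W * σ⁻¹) := by
  classical
  obtain ⟨a, ha⟩ := minimalPeriod_eq_pow hp hU x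
  have hbm : W b ≠ b := by
    intro h
    apply hW1
    refine Perm.ext fun z => ?_
    have h1 : Function.minimalPeriod W b = 1 := Function.minimalPeriod_eq_one_iff_isFixedPt.2 h
    have hpos : 0 < Function.minimalPeriod W z :=
      Function.minimalPeriod_pos_of_mem_periodicPts (W.injective.mem_periodicPts z)
    exact Function.minimalPeriod_eq_one_iff_isFixedPt.1 (show Function.minimalPeriod W z = 1 by
      have := hb z; omega)
  have hb1 : 3 ≤ Function.minimalPeriod W b := by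
    obtain ⟨s, hs⟩ := minimalPeriod_eq_pow hp hW b
    rcases s with _ | s
    · exact absurd (Function.minimalPeriod_eq_one_iff_isFixedPt.1 (hs.trans (pow_zero p))) hbm
    · rw [hs, pow_succ]
      exact hp3.trans (Nat.le_mul_of_pos_left p (pow_pos hp.pos s))
  rcases Nat.lt_or_ge (p ^ a) 5 with h5 | h5
  · -- all orbits have at most three points
    have ha0 : a ≠ 0 := by rintro rfl; rw [pow_zero] at ha; omega
    have hpa : p ≤ p ^ a := Nat.le_self_pow ha0 p
    have hp3' : p = 3 := by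
      rcases (show p = 3 ∨ p = 4 by omega) with h | h
      · exact h
      · exact absurd (h ▸ hp) (by norm_num)
    have h3 : p ^ a = 3 := by
      subst hp3'
      rcases a with _ | _ | a
      · exact absurd rfl ha0
      · rfl
      · exfalso
        have : 3 ^ 2 ≤ 3 ^ (a + 1 + 1) := Nat.pow_le_pow_right (by norm_num) (by omega)
        omega
    have hall : ∀ V : Perm α, V ^ (p ^ N) = 1 → (∀ z, Function.minimalPeriod V z ≤ 3) →
        ∀ z, V z ≠ z → Function.minimalPeriod V z = 3 := by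
      intro V hV hle z hz
      obtain ⟨s, hs⟩ := minimalPeriod_eq_pow hp hV z
      rcases s with _ | s
      · exact absurd (Function.minimalPeriod_eq_one_iff_isFixedPt.1 (hs.trans (pow_zero p))) hz
      · have := hle z
        rw [hs, pow_succ] at this ⊢
        have := Nat.le_mul_of_pos_left p (pow_pos hp.pos s)
        omega
    have hUall := hall U hU fun z => by rw [← h3, ← ha]; exact hx z
    have hWall := hall W hW fun z => by rw [← h3, ← ha]; exact (hb z).trans hbx
    have hU3 : Function.minimalPeriod U x = 3 := ha.trans h3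
    have hW3 : Function.minimalPeriod W b = 3 := by omega
    rcases Nat.lt_or_ge (Fintype.card α) 6 with h6 | h6
    · obtain ⟨ι, hι, hUι⟩ := exists_five (by omega) hU3 hUall
      obtain ⟨κ, hκ, hWκ⟩ := exists_five (by omega) hW3 hWall
      exact glue hp hι hκ hUι hWκ (small_five hp hp3')
    · obtain ⟨ι, s, hι, hs, hUι⟩ := exists_six h6 hU3 hUall
      obtain ⟨κ, t, hκ, ht, hWκ⟩ := exists_six h6 hW3 hWall
      exact glue hp hι hκ hUι hWκ (small_six hp3' hs ht)
  haveI : NeZero (p ^ a) := ⟨(pow_pos hp.pos a).ne'⟩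
  let ι : ZMod (p ^ a) → α := fun i => U^[i.val] x
  have hι : Function.Injective ι := fun i j h => ZMod.val_injective _
    (Function.iterate_injOn_Iio_minimalPeriod (Set.mem_Iio.2 (by rw [ha]; exact ZMod.val_lt i))
      (Set.mem_Iio.2 (by rw [ha]; exact ZMod.val_lt j)) h)
  have hUι : ∀ i, U (ι i) = ι (shift (p ^ a) i) := by
    intro i
    haveI : Fact (1 < p ^ a) := ⟨by omega⟩
    show U (U^[i.val] x) = U^[(i + 1).val] x
    rw [← Function.iterate_succ_apply' (⇑U), ZMod.val_add, ZMod.val_one]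
    have h := Function.iterate_mod_minimalPeriod_eq (f := U) (x := x) (n := i.val + 1)
    rw [ha] at h
    exact h.symm
  have han : p ^ a ≤ Fintype.card α := by
    have := Fintype.card_le_of_injective ι hι
    rwa [ZMod.card] at this
  obtain ⟨S, hScard, hbS, hSinv⟩ := exists_invariant hp hW hb (ha ▸ hbx) han
  let e : ZMod (p ^ a) ≃ S := Fintype.equivOfCardEq (by rw [ZMod.card, Fintype.card_coe, hScard])
  let W' : Perm S := W.subtypePerm (p := fun z => z ∈ S) fun z => (hSinv z).symm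
  let t : Perm (ZMod (p ^ a)) := (e.trans W').trans e.symm
  let κ : ZMod (p ^ a) → α := fun i => (e i : α)
  have hκ : Function.Injective κ := Subtype.val_injective.comp e.injective
  have hWκ : ∀ i, W (κ i) = κ (t i) := fun i => by
    show W (e i : α) = (e (e.symm (W' (e i))) : α)
    rw [Equiv.apply_symm_apply]
    rfl
  refine glue hp hι hκ hUι hWκ fun ε => core_any hp hp3 rfl h5 t ?_ (N := N) ?_ ε
  · intro h
    apply hbm
    have h1 := hWκ (e.symm ⟨b, hbS⟩)
    rw [h] at h1
    simpa [κ] using h1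
  · refine Perm.ext fun i => hκ ?_
    rw [← iterate_map hWκ, hW]
    rfl

/-- The main statement for permutations. -/
theorem main {p : ℕ} (hp : p.Prime) (hp3 : 3 ≤ p) (hn : 5 ≤ Fintype.card α) {U W : Perm α}
    (hU1 : U ≠ 1) (hW1 : W ≠ 1) {N : ℕ} (hU : U ^ (p ^ N) = 1) (hW : W ^ (p ^ N) = 1) :
    ∃ σ : Perm α, Perm.sign σ = 1 ∧ Good p U (σ * W * σ⁻¹) := by
  haveI : Nonempty α := Fintype.card_pos_iff.1 (by omega)
  obtain ⟨x, -, hx⟩ := Finset.exists_max_image (Finset.univ : Finset α)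
    (fun z => Function.minimalPeriod U z) Finset.univ_nonempty
  obtain ⟨b, -, hb⟩ := Finset.exists_max_image (Finset.univ : Finset α)
    (fun z => Function.minimalPeriod W z) Finset.univ_nonempty
  have hx' := fun z => hx z (Finset.mem_univ z)
  have hb' := fun z => hb z (Finset.mem_univ z)
  rcases le_total (Function.minimalPeriod W b) (Function.minimalPeriod U x) with h | h
  · exact one_side hp hp3 hn hW1 hU hW hx' hb' h
  · obtain ⟨σ, hσ, hg⟩ := one_side hp hp3 hn hU1 hW hU hb' hx' h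
    refine ⟨σ⁻¹, by rw [Perm.sign_inv]; exact hσ, ?_⟩
    have := (hg.conj hp σ⁻¹).symm
    simpa [mul_assoc] using this

end Cfsg.Agent.AltPPair
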